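import Groth.Agent.L22.Ideal
import Groth.Agent.L22.Div.Stalk
import Groth.Agent.L16.Rees.InvNearFibre

/-!
# Ideal sheaves through their stalks
-/

set_option autoImplicit false
set_option linter.style.haveILetI false
set_option backward.isDefEq.respectTransparency false
set_option backward.isDefEq.respectTransparency.types false
universe u

open CategoryTheory AlgebraicGeometry TopologicalSpace

noncomputable section

namespace Groth.L20.SeeNormal

variable {X Y : Scheme.{u}}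

/-- The stalk of an ideal sheaf, by pulling back to the local scheme. -/
def sI (I : X.IdealSheafData) (x : X) : Ideal (X.presheaf.stalk x) :=
  ((I.comap (X.fromSpecStalk x)).ideal ⟨⊤, isAffineOpen_top _⟩).map
    (Scheme.ΓSpecIso (X.presheaf.stalk x)).hom.hom

theorem fromSpecStalk_appLE (x : X) {U : X.Opens} (hx : x ∈ U)
    (e : (⊤ : (Spec (X.presheaf.stalk x)).Opens) ≤ X.fromSpecStalk x ⁻¹ᵁ U) :
    (X.fromSpecStalk x).appLE U ⊤ e = X.presheaf.germ U x hx ≫ (Scheme.ΓSpecIso _).inv := by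
  rw [Scheme.Hom.appLE, Scheme.fromSpecStalk_app hx, Category.assoc, Category.assoc, ← Functor.map_comp]
  congr 1

theorem sI_eq (I : X.IdealSheafData) (U : X.affineOpens) {x : X} (hx : x ∈ U.1) :
    sI I x = (I.ideal U).map (X.presheaf.germ U.1 x hx).hom := by
  have e : (⊤ : (Spec (X.presheaf.stalk x)).Opens) ≤ X.fromSpecStalk x ⁻¹ᵁ U.1 := fun z _ => by
    have hz : z ⤳ IsLocalRing.closedPoint (X.presheaf.stalk x) := IsLocalRing.specializes_closedPoint z
    exact (hz.map (X.fromSpecStalk x).continuous).mem_open U.1.2 (by rw [Scheme.fromSpecStalk_closedPoint]; exact hx)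
  rw [sI, Groth.L22.Ideals.comap_ideal (X.fromSpecStalk x) I U ⟨⊤, isAffineOpen_top _⟩ e,
    fromSpecStalk_appLE x hx, Ideal.map_map, ← CommRingCat.hom_comp, Category.assoc, Iso.inv_hom_id,
    Category.comp_id]

theorem sI_comap (f : X ⟶ Y) (I : Y.IdealSheafData) (x : X) :
    sI (I.comap f) x = (sI I (f x)).map (f.stalkMap x).hom := by
  rw [sI, sI, ← Scheme.IdealSheafData.comap_comp, ← Scheme.SpecMap_stalkMap_fromSpecStalk,
    Scheme.IdealSheafData.comap_comp, Groth.L22.Ideals.comap_ideal_top, Ideal.map_map, Ideal.map_map,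
    ← CommRingCat.hom_comp, ← CommRingCat.hom_comp, Scheme.ΓSpecIso_naturality]

theorem ideal_le_of_sI_le {I J : X.IdealSheafData} (U : X.affineOpens) (h : ∀ x ∈ U.1, sI I x ≤ sI J x) :
    I.ideal U ≤ J.ideal U := by
  intro c hc
  let K : Ideal Γ(X, U.1) := Submodule.comap (LinearMap.toSpanSingleton Γ(X, U.1) Γ(X, U.1) c) (J.ideal U)
  suffices K = ⊤ by simpa [K] using (Ideal.eq_top_iff_one K).1 this
  by_contra hK
  obtain ⟨P, hP, hle⟩ := K.exists_le_maximal hK
  let z : Spec Γ(X, U.1) := ⟨P, hP.isPrime⟩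
  have hz : U.2.fromSpec z ∈ U.1 := by
    have : U.2.fromSpec z ∈ Set.range U.2.fromSpec := ⟨z, rfl⟩
    rwa [U.2.range_fromSpec] at this
  letI := X.presheaf.algebra_section_stalk ⟨U.2.fromSpec z, hz⟩
  haveI := U.2.isLocalization_stalk ⟨U.2.fromSpec z, hz⟩
  have hPz : U.2.primeIdealOf ⟨U.2.fromSpec z, hz⟩ = z :=
    U.2.fromSpec.isOpenEmbedding.injective (U.2.fromSpec_primeIdealOf _)
  have h1 : algebraMap Γ(X, U.1) (X.presheaf.stalk (U.2.fromSpec z)) c ∈
      (J.ideal U).map (algebraMap Γ(X, U.1) (X.presheaf.stalk (U.2.fromSpec z))) := by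
    have := h _ hz (by rw [sI_eq I U hz]; exact Ideal.mem_map_of_mem _ hc)
    rwa [sI_eq J U hz] at this
  rw [IsLocalization.algebraMap_mem_map_algebraMap_iff
    (U.2.primeIdealOf ⟨U.2.fromSpec z, hz⟩).asIdeal.primeCompl] at h1
  obtain ⟨s, hs, hsc⟩ := h1
  refine hs ?_
  rw [hPz]
  exact hle (show s • c ∈ J.ideal U from hsc)

theorem ext_sI {I J : X.IdealSheafData} (h : ∀ x, sI I x = sI J x) : I = J :=
  Scheme.IdealSheafData.ext <| funext fun U =>
    le_antisymm (ideal_le_of_sI_le U fun x _ => (h x).le) (ideal_le_of_sI_le U fun x _ => (h x).ge)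

theorem exists_sI_eq_span {I : X.IdealSheafData} (hI : BlowUp.IsEffCartierIdeal I) (x : X) :
    ∃ (W : X.affineOpens) (a : Γ(X, W.1)), x ∈ W.1 ∧ a ∈ nonZeroDivisors Γ(X, W.1) ∧
      ∀ (z : X) (hz : z ∈ W.1), sI I z = Ideal.span {X.presheaf.germ W.1 z hz a} ∧
        X.presheaf.germ W.1 z hz a ∈ nonZeroDivisors (X.presheaf.stalk z) := by
  obtain ⟨W, hxW, a, ha, hWI⟩ := hI x
  refine ⟨W, a, hxW, ha, fun z hz => ?_⟩
  letI := X.presheaf.algebra_section_stalk ⟨z, hz⟩
  haveI := W.2.isLocalization_stalk ⟨z, hz⟩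
  refine ⟨by rw [sI_eq I W hz, hWI, Ideal.map_span, Set.image_singleton],
    IsLocalization.map_nonZeroDivisors_le (W.2.primeIdealOf ⟨z, hz⟩).asIdeal.primeCompl
      (X.presheaf.stalk z) ⟨a, ha, rfl⟩⟩

variable (idl : ∀ y : Y, Ideal (Y.presheaf.stalk y))
  (hloc : ∀ y : Y, ∃ (G : Y.Opens) (c : Γ(Y, G)), y ∈ G ∧
    ∀ (z : Y) (hz : z ∈ G), idl z = Ideal.span {Y.presheaf.germ G z hz c})

/-- The sections with germs in the given ideals. -/
def secIdeal (U : Y.affineOpens) : Ideal Γ(Y, U.1) where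
  carrier := {a | ∀ (z : Y) (hz : z ∈ U.1), Y.presheaf.germ U.1 z hz a ∈ idl z}
  add_mem' ha hb z hz := by rw [map_add]; exact add_mem (ha z hz) (hb z hz)
  zero_mem' z hz := by rw [map_zero]; exact zero_mem _
  smul_mem' r a ha z hz := by rw [smul_eq_mul, map_mul]; exact Ideal.mul_mem_left _ _ (ha z hz)

include hloc in
theorem exists_pow_mem (U : Y.affineOpens) (r a : Γ(Y, U.1))
    (h : ∀ (z : Y) (hz : z ∈ U.1), z ∈ Y.basicOpen r → Y.presheaf.germ U.1 z hz a ∈ idl z) :
    ∃ N, r ^ N * a ∈ secIdeal idl U := by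
  classical
  choose G c hyG hc using hloc
  have key : ∀ z : Y, z ∈ U.1 → ∃ (V : Y.Opens) (N : ℕ), z ∈ V ∧
      ∀ (w : Y) (hw : w ∈ U.1), w ∈ V → ∀ M ≥ N, Y.presheaf.germ U.1 w hw (r ^ M * a) ∈ idl w := by
    intro z hz
    obtain ⟨V, hV, hzV, hle⟩ := exists_isAffineOpen_mem_and_subset (x := z) (U := U.1 ⊓ G z) ⟨hz, hyG z⟩
    have hVU : V ≤ U.1 := fun w hw => (hle hw).1
    have hVG : V ≤ G z := fun w hw => (hle hw).2
    let res : Γ(Y, U.1) →+* Γ(Y, V) := (Y.presheaf.map (homOfLE hVU).op).hom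
    let c' := Y.presheaf.map (homOfLE hVG).op (c z)
    let K : Ideal Γ(Y, V) := Submodule.comap (LinearMap.toSpanSingleton Γ(Y, V) Γ(Y, V) (res a)) (Ideal.span {c'})
    have hK : res r ∈ K.radical := by
      rw [Ideal.radical_eq_sInf, Ideal.mem_sInf]
      rintro P ⟨hle, hP⟩
      by_contra hr
      let w : Spec Γ(Y, V) := ⟨P, hP⟩
      have hw : hV.fromSpec w ∈ V := by
        have : hV.fromSpec w ∈ Set.range hV.fromSpec := ⟨w, rfl⟩
        rwa [hV.range_fromSpec] at this
      letI := Y.presheaf.algebra_section_stalk ⟨hV.fromSpec w, hw⟩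
      haveI := hV.isLocalization_stalk ⟨hV.fromSpec w, hw⟩
      have hPw : hV.primeIdealOf ⟨hV.fromSpec w, hw⟩ = w :=
        hV.fromSpec.isOpenEmbedding.injective (hV.fromSpec_primeIdealOf _)
      have hwr : hV.fromSpec w ∈ Y.basicOpen r := by
        refine (Y.mem_basicOpen r _ (hVU hw)).2 ?_
        rw [show Y.presheaf.germ U.1 _ (hVU hw) r = algebraMap Γ(Y, V) (Y.presheaf.stalk (hV.fromSpec w)) (res r) from
          (TopCat.Presheaf.germ_res_apply _ _ _ _ _).symm]
        exact IsLocalization.map_units (Y.presheaf.stalk (hV.fromSpec w))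
          (⟨res r, by rw [hPw]; exact hr⟩ : (hV.primeIdealOf ⟨hV.fromSpec w, hw⟩).asIdeal.primeCompl)
      have h1 : algebraMap Γ(Y, V) (Y.presheaf.stalk (hV.fromSpec w)) (res a) ∈
          (Ideal.span {c'}).map (algebraMap Γ(Y, V) (Y.presheaf.stalk (hV.fromSpec w))) := by
        have h2 := h _ (hVU hw) hwr
        rw [hc z _ (hVG hw)] at h2
        rw [Ideal.map_span, Set.image_singleton]
        show Y.presheaf.germ V (hV.fromSpec w) hw (res a) ∈ Ideal.span {Y.presheaf.germ V (hV.fromSpec w) hw c'}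
        rw [TopCat.Presheaf.germ_res_apply, TopCat.Presheaf.germ_res_apply]
        exact h2
      rw [IsLocalization.algebraMap_mem_map_algebraMap_iff
        (hV.primeIdealOf ⟨hV.fromSpec w, hw⟩).asIdeal.primeCompl] at h1
      obtain ⟨s, hs, hsa⟩ := h1
      refine hs ?_
      rw [hPw]
      exact hle (show s • res a ∈ Ideal.span {c'} from hsa)
    obtain ⟨N, hN⟩ := hK
    refine ⟨V, N, hzV, fun w hw hwV M hM => ?_⟩
    have h3 : res (r ^ M * a) ∈ Ideal.span {c'} := by
      have h4 : res r ^ M • res a ∈ Ideal.span {c'} := by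
        obtain ⟨d, rfl⟩ := Nat.exists_eq_add_of_le hM
        rw [pow_add, smul_eq_mul, mul_right_comm]
        exact Ideal.mul_mem_right _ _ hN
      rwa [map_mul, map_pow]
    have h5 := Ideal.mem_map_of_mem (Y.presheaf.germ V w hwV).hom h3
    rw [Ideal.map_span, Set.image_singleton] at h5
    rw [hc z w (hVG hwV)]
    convert h5 using 1
    · exact congrArg (fun t => Ideal.span {t}) (TopCat.Presheaf.germ_res_apply _ _ _ _ _).symm
    · exact (TopCat.Presheaf.germ_res_apply _ _ _ _ _).symm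
  choose! V N hzV hVN using key
  obtain ⟨T, hTU, hT⟩ := U.2.isCompact.elim_nhds_subcover (fun z => ((V z : Y.Opens) : Set Y))
    fun z hz => (V z).2.mem_nhds (hzV z hz)
  refine ⟨T.sup N, fun w hw => ?_⟩
  obtain ⟨z, hzT, hwz⟩ := Set.mem_iUnion₂.1 (hT hw)
  exact hVN z (hTU z hzT) w hw hwz _ (Finset.le_sup hzT)

/-- The ideal sheaf with the given stalks. -/
def ofStalks : Y.IdealSheafData where
  ideal := secIdeal idl
  map_ideal_basicOpen U r := by
    refine le_antisymm (Ideal.map_le_iff_le_comap.2 fun a ha z hz => ?_) fun b hb => ?_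
    · show Y.presheaf.germ (Y.basicOpen r) z hz ((Y.presheaf.map (homOfLE (Y.basicOpen_le r)).op).hom a) ∈ _
      rw [TopCat.Presheaf.germ_res_apply]
      exact ha z (Y.basicOpen_le r hz)
    · letI : Algebra Γ(Y, U.1) Γ(Y, Y.basicOpen r) := (Y.presheaf.map (homOfLE <| Y.basicOpen_le r).op).hom.toAlgebra
      haveI := U.2.isLocalization_basicOpen r
      obtain ⟨⟨a, ⟨_, n, rfl⟩⟩, hab⟩ := IsLocalization.surj (Submonoid.powers r) (show Γ(Y, Y.basicOpen r) from b)
      obtain ⟨N, hN⟩ := exists_pow_mem idl hloc U r a fun z hz hzr => by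
        have h1 := congrArg (Y.presheaf.germ (Y.basicOpen r) z hzr) hab.symm
        rw [show algebraMap Γ(Y, U.1) Γ(Y, Y.basicOpen r) a = (Y.presheaf.map (homOfLE (Y.basicOpen_le r)).op).hom a from rfl,
          TopCat.Presheaf.germ_res_apply, map_mul] at h1
        rw [h1]
        exact Ideal.mul_mem_right _ _ (hb z hzr)
      have h1 := Ideal.mem_map_of_mem (algebraMap Γ(Y, U.1) Γ(Y, Y.basicOpen r)) hN
      rw [map_mul, ← hab, mul_left_comm, ← map_mul] at h1
      have hu : IsUnit (algebraMap Γ(Y, U.1) Γ(Y, Y.basicOpen r) (r ^ N * r ^ n)) := by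
        rw [← pow_add]
        exact IsLocalization.map_units _ (⟨r ^ (N + n), ⟨N + n, rfl⟩⟩ : Submonoid.powers r)
      exact (Ideal.mul_unit_mem_iff_mem _ hu).1 h1

theorem sI_ofStalks (y : Y) : sI (ofStalks idl hloc) y = idl y := by
  obtain ⟨G, c, hyG, hc⟩ := hloc y
  obtain ⟨V, hV, hyV, hVG⟩ := exists_isAffineOpen_mem_and_subset (x := y) (U := G) hyG
  rw [sI_eq _ ⟨V, hV⟩ hyV]
  refine le_antisymm (Ideal.map_le_iff_le_comap.2 fun a ha => ha y hyV) ?_
  rw [hc y hyG, Ideal.span_singleton_le_iff_mem,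
    ← TopCat.Presheaf.germ_res_apply Y.presheaf (homOfLE (hVG : V ≤ G)) y hyV c]
  refine Ideal.mem_map_of_mem _ fun z hz => ?_
  rw [TopCat.Presheaf.germ_res_apply, hc z (hVG hz)]
  exact Ideal.mem_span_singleton_self _

end Groth.L20.SeeNormal
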