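import Groth.Agent.L20.SeeNormal.IdealDesc

/-!
# Descent of a divisor to the spectrum of a local ring of the base
-/

set_option autoImplicit false
set_option linter.style.haveILetI false
set_option backward.isDefEq.respectTransparency false
set_option backward.isDefEq.respectTransparency.types false
universe u

open CategoryTheory CategoryTheory.Limits AlgebraicGeometry TopologicalSpace IsLocalRing

noncomputable section

namespace Groth.L20.SeeNormal

variable {X Y : Scheme.{u}}

theorem ideal_top_comap_fromSpecStalk (I : X.IdealSheafData) (x : X) :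
    (I.comap (X.fromSpecStalk x)).ideal ⟨⊤, isAffineOpen_top _⟩ =
      (sI I x).map (Scheme.ΓSpecIso (X.presheaf.stalk x)).inv.hom := by
  rw [sI, Ideal.map_map, ← CommRingCat.hom_comp, Iso.hom_inv_id, CommRingCat.hom_id, Ideal.map_id]

theorem isEffCartier_comap_fromSpecStalk {I : Y.IdealSheafData} (hI : BlowUp.IsEffCartierIdeal I) (y : Y) :
    BlowUp.IsEffCartierIdeal (I.comap (Y.fromSpecStalk y)) := by
  intro p
  obtain ⟨W, a, hyW, -, hW⟩ := exists_sI_eq_span hI y
  obtain ⟨h1, h2⟩ := hW y hyW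
  refine ⟨⟨⊤, isAffineOpen_top _⟩, trivial, (Scheme.ΓSpecIso (Y.presheaf.stalk y)).inv (Y.presheaf.germ W.1 y hyW a), ?_, ?_⟩
  · have e := (Scheme.ΓSpecIso (Y.presheaf.stalk y)).symm.commRingCatIsoToRingEquiv
    refine mem_nonZeroDivisors_iff_right.2 fun w hw => ?_
    let i := (Scheme.ΓSpecIso (Y.presheaf.stalk y)).commRingCatIsoToRingEquiv
    refine i.injective ?_
    rw [map_zero]
    refine (mem_nonZeroDivisors_iff_right.1 h2) _ ?_
    have h3 := congrArg i hw
    rw [map_mul, map_zero] at h3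
    convert h3 using 2
    exact (i.apply_symm_apply _).symm
  · rw [ideal_top_comap_fromSpecStalk, h1, Ideal.map_span, Set.image_singleton]

theorem descAt_of_spec {f : X ⟶ Y} {J : X.IdealSheafData} {y : Y}
    {I₁ : (Spec (Y.presheaf.stalk y)).IdealSheafData} (hI₁ : BlowUp.IsEffCartierIdeal I₁)
    (h : I₁.comap (pullback.snd f (Y.fromSpecStalk y)) = J.comap (pullback.fst f (Y.fromSpecStalk y))) :
    DescAt f J y := by
  obtain ⟨W, hW, a, ha, hWa⟩ := hI₁ (closedPoint (Y.presheaf.stalk y))
  have hWtop : W = ⟨⊤, isAffineOpen_top _⟩ := Subtype.ext <| top_le_iff.1 fun z _ =>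
    (IsLocalRing.specializes_closedPoint z).mem_open W.1.2 hW
  subst hWtop
  let i := (Scheme.ΓSpecIso (Y.presheaf.stalk y)).commRingCatIsoToRingEquiv
  have hia : i a ∈ nonZeroDivisors (Y.presheaf.stalk y) := by
    refine mem_nonZeroDivisors_iff_right.2 fun w hw => ?_
    refine i.symm.injective ?_
    rw [map_zero]
    refine (mem_nonZeroDivisors_iff_right.1 ha) _ ?_
    have h3 := congrArg i.symm hw
    rwa [map_mul, map_zero, i.symm_apply_apply] at h3
  obtain ⟨U, hU, hy, -⟩ := exists_isAffineOpen_mem_and_subset (x := y) (U := (⊤ : Y.Opens)) trivial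
  letI := Y.presheaf.algebra_section_stalk ⟨y, hy⟩
  haveI := hU.isLocalization_stalk ⟨y, hy⟩
  obtain ⟨⟨c, t⟩, hct⟩ := IsLocalization.surj (hU.primeIdealOf ⟨y, hy⟩).asIdeal.primeCompl (i a)
  have hu := IsLocalization.map_units (Y.presheaf.stalk y) t
  refine ⟨U, hy, c, ?_, ?_⟩
  · rw [show Y.presheaf.germ U y hy c = _ from hct.symm]
    exact mul_mem hia hu.mem_nonZeroDivisors
  rintro x rfl
  refine ⟨hy, ?_⟩
  let l : Spec (X.presheaf.stalk x) ⟶ pullback f (Y.fromSpecStalk (f x)) :=
    pullback.lift (X.fromSpecStalk x) (Spec.map (f.stalkMap x)) (Scheme.SpecMap_stalkMap_fromSpecStalk f).symm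
  have e : J.comap (X.fromSpecStalk x) = I₁.comap (Spec.map (f.stalkMap x)) := by
    rw [← pullback.lift_fst (X.fromSpecStalk x) (Spec.map (f.stalkMap x)) (Scheme.SpecMap_stalkMap_fromSpecStalk f).symm,
      Scheme.IdealSheafData.comap_comp, ← h, ← Scheme.IdealSheafData.comap_comp, pullback.lift_snd]
  rw [sI, e, Groth.L22.Ideals.comap_ideal_top, hWa, Ideal.map_map, Ideal.map_span, Set.image_singleton,
    show Y.presheaf.germ U (f x) hy c = _ from hct.symm, map_mul,
    Ideal.span_singleton_mul_right_unit (hu.map (f.stalkMap x).hom), ← CommRingCat.hom_comp,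
    Scheme.ΓSpecIso_naturality]
  rfl

end Groth.L20.SeeNormal
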