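import Groth.Agent.L20.SeeNormal.Main
import Groth.Agent.L21.Extend.UFD
import Groth.Agent.L29.LocFree
import Groth.Agent.L18.AmplePull
import Mathlib.AlgebraicGeometry.AffineSpace

/-!
# Picard group of a normal scheme times an open of affine space
-/

set_option autoImplicit false
set_option linter.style.haveILetI false
set_option linter.unusedSectionVars false
set_option backward.isDefEq.respectTransparency false
set_option backward.isDefEq.respectTransparency.types false
universe u

open CategoryTheory CategoryTheory.Limits AlgebraicGeometry TopologicalSpace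

noncomputable section

namespace Groth.L20.SeeNormal

theorem flat_affineSpace_over {n : Type u} (T : Scheme.{u}) : Flat (𝔸(n; T) ↘ T) :=
  MorphismProperty.pullback_fst _ _ <| by
  have := isIso_of_isTerminal specULiftZIsTerminal.{u} terminalIsTerminal (terminal.from _)
  rw [← terminal.comp_from (Spec.map (CommRingCat.ofHom MvPolynomial.C)),
    MorphismProperty.cancel_right_of_respectsIso (P := @Flat),
    HasRingHomProperty.Spec_iff (P := @Flat)]
  exact RingHom.flat_algebraMap_iff.2 (inferInstanceAs (Module.Flat (ULift.{u} ℤ) (MvPolynomial n (ULift.{u} ℤ))))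

theorem pullCl_section {X Y : Scheme.{u}} (p : X ⟶ Y) (s : Y ⟶ X) (hs : s ≫ p = 𝟙 Y) (c : PicF.Cl Y) :
    PicF.pullCl s (PicF.pullCl p c) = c := by
  induction c using Quot.ind with
  | _ M =>
    exact Quot.sound ⟨(Scheme.Modules.pullbackComp s p).app M ≪≫ (Scheme.Modules.pullbackCongr hs).app M ≪≫
      (Scheme.Modules.pullbackId Y).app M⟩

/-- An invertible module on a scheme openly immersed in a factorial affine scheme is trivial. -/
theorem nonempty_iso_structureModule_of_openImmersion {Z : Scheme.{u}} {R : Type u} [CommRing R] [IsDomain R]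
    [UniqueFactorizationMonoid R] (Φ : Z ⟶ Spec (CommRingCat.of R)) [IsOpenImmersion Φ]
    (L : Z.Modules) (hL : PicF.IsInvertible L) : Nonempty (L ≅ Coh.structureModule Z) := by
  obtain ⟨e₀⟩ := Groth.L21.Extend.nonempty_iso_structureModule_of_ufd R Φ.opensRange
    ((Scheme.Modules.pullback Φ.isoOpensRange.inv).obj L)
    (Groth.L18.Ample.isInvertible_pullback _ hL)
  exact ⟨((Scheme.Modules.pullbackId Z).app L).symm ≪≫
    (Scheme.Modules.pullbackCongr Φ.isoOpensRange.hom_inv_id.symm).app L ≪≫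
    ((Scheme.Modules.pullbackComp Φ.isoOpensRange.hom Φ.isoOpensRange.inv).app L).symm ≪≫
    (Scheme.Modules.pullback Φ.isoOpensRange.hom).mapIso e₀ ≪≫ Groth.L29.LocFree.pullbackUnitIso _⟩

variable {S : Scheme.{u}} {n : Type u} (U : (𝔸(n; S)).Opens) {Y : Scheme.{u}} (g : Y ⟶ S)

local notation "π" => (𝔸(n; S) ↘ S)

/-- The fibres of an open of affine space over a scheme are opens of affine spaces over fields. -/
theorem exists_fibre_immersion (y : Y) :
    ∃ Φ : (pullback.fst g (U.ι ≫ π)).fiber y ⟶ Spec (CommRingCat.of (MvPolynomial n (Y.residueField y))),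
      IsOpenImmersion Φ := by
  let j : pullback g (U.ι ≫ π) ⟶ pullback g π :=
    pullback.map _ _ _ _ (𝟙 Y) U.ι (𝟙 S) (by simp) (by simp)
  haveI : IsOpenImmersion j := Scheme.pullback_map_isOpenImmersion ..
  let i : (pullback.fst g (U.ι ≫ π)).fiber y ⟶ pullback (pullback.fst g π) (Y.fromSpecResidueField y) :=
    pullback.map _ _ _ _ j (𝟙 _) (𝟙 Y) (by simp [j]) (by simp)
  haveI : IsOpenImmersion i := Scheme.pullback_map_isOpenImmersion ..
  let e : pullback (pullback.fst g π) (Y.fromSpecResidueField y) ≅ Spec (CommRingCat.of (MvPolynomial n (Y.residueField y))) :=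
    pullbackSymmetry _ _ ≪≫ pullbackRightPullbackFstIso g π (Y.fromSpecResidueField y) ≪≫ pullbackSymmetry _ _ ≪≫
      (AffineSpace.isPullback_map (n := n) (Y.fromSpecResidueField y ≫ g)).isoPullback.symm ≪≫
      AffineSpace.SpecIso n (Y.residueField y)
  exact ⟨i ≫ e.hom, inferInstance⟩

theorem pullCl_bijective_open_affineSpace [Finite n] [IsNoetherian S] [IsNoetherian Y] [IsIntegral Y]
    (hY : Pi1.IsNormalScheme Y) (u : S ⟶ (U : Scheme.{u})) (hu : u ≫ U.ι ≫ π = 𝟙 S)
    (c' : PicF.Cl (pullback g (U.ι ≫ π))) (hc' : PicF.IsInvertibleCl c') :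
    ∃! c : PicF.Cl Y, PicF.IsInvertibleCl c ∧ PicF.pullCl (pullback.fst g (U.ι ≫ π)) c = c' := by
  let p := pullback.fst g (U.ι ≫ π)
  let s : Y ⟶ pullback g (U.ι ≫ π) := pullback.lift (𝟙 Y) (g ≫ u) (by rw [Category.assoc, hu, Category.id_comp, Category.comp_id])
  have hs : s ≫ p = 𝟙 Y := pullback.lift_fst _ _ _
  haveI : Surjective p := ⟨fun y => ⟨s y, by rw [← Scheme.Hom.comp_apply, hs]; rfl⟩⟩
  haveI : Flat π := flat_affineSpace_over S
  haveI : Flat (U.ι ≫ π) := inferInstance
  haveI : Flat p := inferInstance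
  haveI : LocallyOfFinitePresentation p := inferInstance
  haveI : IsLocallyNoetherian (pullback g (U.ι ≫ π)) := LocallyOfFiniteType.isLocallyNoetherian p
  have hopen : IsOpenMap p := p.isOpenMap
  obtain ⟨L, rfl, hL⟩ := hc'
  have hfib : ∀ y : Y, IsIntegral (p.fiber y) := fun y => by
    obtain ⟨Φ, hΦ⟩ := exists_fibre_immersion U g y
    haveI := hΦ
    haveI : Nonempty (p.fiber y) := by
      obtain ⟨x, hx⟩ := p.surjective y
      obtain ⟨v, -⟩ : x ∈ Set.range (p.fiberι y) := by rw [p.range_fiberι]; exact hx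
      exact ⟨v⟩
    exact isIntegral_of_isOpenImmersion Φ
  have htriv : ∀ η : Y, Nonempty ((Scheme.Modules.pullback (p.fiberι η)).obj L ≅ Coh.structureModule (p.fiber η)) := fun η => by
    obtain ⟨Φ, hΦ⟩ := exists_fibre_immersion U g η
    haveI := hΦ
    exact nonempty_iso_structureModule_of_openImmersion Φ _ (Groth.L18.Ample.isInvertible_pullback _ hL)
  obtain ⟨M, hM, ⟨e⟩⟩ := exists_descent p (Or.inr hopen) hY (fun y _ => hfib y) L hL fun η _ => htriv η
  have h1 : PicF.pullCl p (PicF.cl M) = PicF.cl L := Quot.sound ⟨e⟩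
  refine ⟨PicF.cl M, ⟨⟨M, rfl, hM⟩, h1⟩, fun c hc => ?_⟩
  rw [← pullCl_section p s hs c, hc.2, ← h1, pullCl_section p s hs]

end Groth.L20.SeeNormal
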