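import Groth.Agent.L01.NormalDomain
import Mathlib.RingTheory.Flat.FaithfullyFlat.Algebra
import Mathlib.RingTheory.Ideal.AssociatedPrime.Finiteness
import Mathlib.LinearAlgebra.TensorProduct.Quotient
import Mathlib.LinearAlgebra.TensorProduct.Pi
import Mathlib.RingTheory.DiscreteValuationRing.Basic
import Mathlib.RingTheory.Ideal.Height

/-!
# Descent of principal ideals along flat maps from the primes of depth at most one

For `R` Noetherian and `A` flat over `R`, membership in `IA` can be tested at the associated primes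
of `R/I`.  Over a normal domain this descends principal ideals dividing a scalar, as soon as the
fibres over the primes of height one have prime kernels.
-/

set_option autoImplicit false
set_option linter.style.haveILetI false
universe u

open TensorProduct

namespace Groth.L20.SeeNormal

variable {R A : Type u} [CommRing R] [IsNoetherianRing R] [CommRing A] [Algebra R A] [Module.Flat R A]

/-- Membership in an extended ideal is tested at the associated primes of the quotient. -/
theorem mem_map_of_local (I : Ideal R) (c : A)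
    (h : ∀ q ∈ associatedPrimes R (R ⧸ I), ∃ s ∉ q, algebraMap R A s * c ∈ I.map (algebraMap R A)) :
    c ∈ I.map (algebraMap R A) := by
  classical
  let P := associatedPrimes R (R ⧸ I)
  have hP : P.Finite := associatedPrimes.finite R _
  haveI : Fintype P := hP.fintype
  haveI hp : ∀ q : P, (q.1).IsPrime := fun q => q.2.isPrime
  let M : P → Type u := fun q => LocalizedModule q.1.primeCompl (R ⧸ I)
  let φ : (R ⧸ I) →ₗ[R] Π q : P, M q :=
    LinearMap.pi fun q => LocalizedModule.mkLinearMap q.1.primeCompl (R ⧸ I)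
  have hφ : Function.Injective φ := by
    rw [injective_iff_map_eq_zero]
    intro m hm
    by_contra hm0
    obtain ⟨q, hq, hle⟩ := exists_le_isAssociatedPrime_of_isNoetherianRing R m hm0
    haveI := hq.isPrime
    have h1 : LocalizedModule.mkLinearMap q.primeCompl (R ⧸ I) m = 0 := congrFun hm ⟨q, hq⟩
    obtain ⟨⟨s, hs⟩, hsm⟩ := (IsLocalizedModule.eq_zero_iff q.primeCompl
      (LocalizedModule.mkLinearMap q.primeCompl (R ⧸ I))).1 h1
    exact hs (hle (by rw [Submodule.mem_colon_singleton, Submodule.mem_bot]; exact hsm))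
  have key : ∀ (q : P) (d : A), d ∈ I.map (algebraMap R A) → ∀ m : M q, d ⊗ₜ[R] m = 0 := by
    intro q d hd
    induction hd using Submodule.span_induction with
    | mem d hd =>
      obtain ⟨i, hi, rfl⟩ := hd
      intro m
      rw [Algebra.algebraMap_eq_smul_one, smul_tmul]
      suffices i • m = 0 by rw [this, tmul_zero]
      induction m using LocalizedModule.induction_on with
      | h x s =>
        rw [LocalizedModule.smul'_mk]
        have : i • x = 0 := by
          obtain ⟨r, rfl⟩ := Ideal.Quotient.mk_surjective x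
          rw [Algebra.smul_def, Ideal.Quotient.algebraMap_eq, ← map_mul, Ideal.Quotient.eq_zero_iff_mem]
          exact I.mul_mem_right r hi
        rw [this, LocalizedModule.zero_mk]
    | zero => intro m; exact zero_tmul _ _
    | add a b _ _ ha hb => intro m; rw [add_tmul, ha, hb, add_zero]
    | smul a d _ hd =>
      intro m
      rw [show (a • d) ⊗ₜ[R] m = a • (d ⊗ₜ[R] m) from (smul_tmul' a d m).symm, hd, smul_zero]
  let x : A ⊗[R] (R ⧸ I) := c ⊗ₜ Ideal.Quotient.mk I 1
  have hx : x = 0 := by
    refine Module.Flat.lTensor_preserves_injective_linearMap (M := A) φ hφ ?_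
    rw [map_zero]
    apply (TensorProduct.piRight R R A M).injective
    rw [map_zero]
    funext q
    simp only [x, LinearMap.lTensor_tmul, TensorProduct.piRight_apply, TensorProduct.piRightHom_tmul, Pi.zero_apply]
    obtain ⟨s, hs, hsc⟩ := h q.1 q.2
    obtain ⟨m, hm⟩ : ∃ m : M q, s • m = φ (Ideal.Quotient.mk I 1) q :=
      ((Module.End.isUnit_iff _).1 (IsLocalizedModule.map_units
        (LocalizedModule.mkLinearMap q.1.primeCompl (R ⧸ I)) (⟨s, hs⟩ : q.1.primeCompl))).2 _
    rw [← hm, ← smul_tmul, Algebra.smul_def]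
    exact key q _ hsc m
  have := congrArg (TensorProduct.tensorQuotEquivQuotSMul A I) hx
  rw [TensorProduct.tensorQuotEquivQuotSMul_tmul_mk, one_smul, map_zero, Submodule.Quotient.mk_eq_zero,
    Ideal.smul_top_eq_map] at this
  exact this

/-- An ideal is extended from its contraction if it is so at the associated primes. -/
theorem map_comap_eq_of_local (J : Ideal A)
    (h : ∀ q ∈ associatedPrimes R (R ⧸ J.comap (algebraMap R A)), ∀ c ∈ J,
      ∃ s ∉ q, algebraMap R A s * c ∈ (J.comap (algebraMap R A)).map (algebraMap R A)) :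
    (J.comap (algebraMap R A)).map (algebraMap R A) = J :=
  le_antisymm Ideal.map_comap_le fun c hc => mem_map_of_local _ c fun q hq => h q hq c hc

/-- An element is a multiple of `b` if it is so at the associated primes of `b`. -/
theorem dvd_of_local {R : Type u} [CommRing R] [IsNoetherianRing R] {a b : R}
    (h : ∀ q ∈ associatedPrimes R (R ⧸ Ideal.span {b}), ∃ s ∉ q, b ∣ s * a) : b ∣ a := by
  have := mem_map_of_local (A := R) (Ideal.span {b}) a fun q hq => by
    obtain ⟨s, hs, hd⟩ := h q hq
    exact ⟨s, hs, by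
      rw [Algebra.algebraMap_self, RingHom.id_apply, Ideal.map_id]
      exact Ideal.mem_span_singleton.2 hd⟩
  rwa [Algebra.algebraMap_self, Ideal.map_id, Ideal.mem_span_singleton] at this

section Local

omit [IsNoetherianRing R] [Algebra R A] [Module.Flat R A] in
/-- Associated elements span the same ideal. -/
theorem span_eq_of_associated {x y : A} (h : Associated x y) : Ideal.span {x} = Ideal.span {y} := by
  obtain ⟨v, rfl⟩ := h
  exact (Ideal.span_singleton_mul_right_unit v.isUnit x).symm

variable [IsLocalRing R] [IsLocalRing A] [IsLocalHom (algebraMap R A)]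

omit [IsNoetherianRing R] in
/-- An extended ideal which is principal comes from a principal ideal. -/
theorem exists_gen_of_map_eq_span (I : Ideal R) {a : A} (ha : a ∈ nonZeroDivisors A)
    (hI : I.map (algebraMap R A) = Ideal.span {a}) :
    ∃ i, I = Ideal.span {i} ∧ Associated (algebraMap R A i) a := by
  haveI : Module.FaithfullyFlat R A := Module.FaithfullyFlat.of_flat_of_isLocalHom
  obtain ⟨i, hi, hass⟩ : ∃ i ∈ I, Associated (algebraMap R A i) a := by
    by_contra hne
    push Not at hne
    have hle : I.map (algebraMap R A) ≤ Ideal.span {a} * IsLocalRing.maximalIdeal A := by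
      rw [Ideal.map_le_iff_le_comap]
      intro i hi
      obtain ⟨t, ht⟩ := Ideal.mem_span_singleton'.1 (hI.le (Ideal.mem_map_of_mem _ hi))
      rw [Ideal.mem_comap, Ideal.mem_span_singleton_mul]
      refine ⟨t, (IsLocalRing.mem_maximalIdeal _).2 fun hu => hne i hi ?_, by rw [mul_comm]; exact ht⟩
      rw [← ht, mul_comm]
      exact (associated_mul_unit_right a t hu).symm
    obtain ⟨t, ht, hat⟩ := Ideal.mem_span_singleton_mul.1 (hle (hI.ge (Ideal.mem_span_singleton_self a)))
    have : t = 1 := (mul_cancel_left_mem_nonZeroDivisors ha).1 (hat.trans (mul_one a).symm)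
    exact (IsLocalRing.maximalIdeal.isMaximal A).ne_top ((Ideal.eq_top_iff_one _).2 (this ▸ ht))
  refine ⟨i, ?_, hass⟩
  rw [← Ideal.comap_map_eq_self_of_faithfullyFlat (B := A) I, hI,
    ← Ideal.comap_map_eq_self_of_faithfullyFlat (B := A) (Ideal.span {i}), Ideal.map_span, Set.image_singleton,
    span_eq_of_associated hass]

omit [IsNoetherianRing R] in
/-- Associatedness descends. -/
theorem associated_of_algebraMap [IsDomain R] {p q : R} (h : Associated (algebraMap R A p) (algebraMap R A q)) :
    Associated p q := by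
  haveI : Module.FaithfullyFlat R A := Module.FaithfullyFlat.of_flat_of_isLocalHom
  refine Ideal.span_singleton_eq_span_singleton.1 ?_
  rw [← Ideal.comap_map_eq_self_of_faithfullyFlat (B := A) (Ideal.span {p}),
    ← Ideal.comap_map_eq_self_of_faithfullyFlat (B := A) (Ideal.span {q}), Ideal.map_span, Ideal.map_span,
    Set.image_singleton, Set.image_singleton, span_eq_of_associated h]

end Local

section Normal

omit [IsNoetherianRing R] [Module.Flat R A] in
/-- Factor a divisor of a power of a uniformizer whose fibre has prime kernel. -/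
theorem exists_pow_factor (q : Ideal R) [q.IsPrime] (π : R) (hπ : algebraMap R A π ∈ nonZeroDivisors A)
    (hπq : ∀ z ∈ q.map (algebraMap R A), ∃ s ∉ q, algebraMap R A π ∣ algebraMap R A s * z)
    (hπm : π ∈ q)
    (H : ∀ x y : A, (∃ s ∉ q, algebraMap R A s * (x * y) ∈ q.map (algebraMap R A)) →
      (∃ s ∉ q, algebraMap R A s * x ∈ q.map (algebraMap R A)) ∨
        ∃ s ∉ q, algebraMap R A s * y ∈ q.map (algebraMap R A)) :
    ∀ (k : ℕ) (a b : A) (t : R), t ∉ q → a * b = algebraMap R A (π ^ k * t) →
      ∃ i : R, a ∣ algebraMap R A i ∧ ∃ s ∉ q, algebraMap R A i ∣ algebraMap R A s * a := by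
  intro k
  induction k with
  | zero =>
    intro a b t ht hab
    rw [pow_zero, one_mul] at hab
    exact ⟨t, ⟨b, hab.symm⟩, t, ht, dvd_mul_right _ _⟩
  | succ k ih =>
    intro a b t ht hab
    have hab' : a * b = algebraMap R A π * algebraMap R A (π ^ k * t) := by
      rw [hab, pow_succ', mul_assoc, map_mul]
    have hmem : ∃ s ∉ q, algebraMap R A s * (a * b) ∈ q.map (algebraMap R A) :=
      ⟨1, fun h => ‹q.IsPrime›.ne_top ((Ideal.eq_top_iff_one q).2 h), by
        rw [map_one, one_mul, hab]
        exact Ideal.mem_map_of_mem _ (q.mul_mem_right _ (q.pow_mem_of_mem hπm _ k.succ_pos))⟩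
    rcases H a b hmem with ⟨s, hs, hsa⟩ | ⟨s, hs, hsb⟩
    · obtain ⟨s', hs', y, hy⟩ := hπq _ hsa
      have hyb : y * b = algebraMap R A (π ^ k * (t * (s' * s))) :=
        (mul_cancel_left_mem_nonZeroDivisors hπ).1 <| by
          rw [← mul_assoc, ← hy]
          simp only [map_mul, map_pow] at hab' ⊢
          linear_combination (algebraMap R A s' * algebraMap R A s) * hab'
      have hne : t * (s' * s) ∉ q := fun h =>
        (Ideal.IsPrime.mem_or_mem ‹_› h).elim ht fun h => (Ideal.IsPrime.mem_or_mem ‹_› h).elim hs' hs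
      obtain ⟨i, ⟨v, hv⟩, s'', hs'', w, hw⟩ := ih y b _ hne hyb
      refine ⟨π * i, ⟨algebraMap R A s' * algebraMap R A s * v, ?_⟩, s'' * (s' * s),
        fun h => (Ideal.IsPrime.mem_or_mem ‹_› h).elim hs'' fun h => (Ideal.IsPrime.mem_or_mem ‹_› h).elim hs' hs,
        ⟨w, ?_⟩⟩
      · rw [map_mul, hv]
        linear_combination (-v) * hy
      · simp only [map_mul]
        linear_combination (algebraMap R A s'') * hy + (algebraMap R A π) * hw
    · obtain ⟨s', hs', y, hy⟩ := hπq _ hsb
      have hay : a * y = algebraMap R A (π ^ k * (t * (s' * s))) :=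
        (mul_cancel_left_mem_nonZeroDivisors hπ).1 <| by
          simp only [map_mul, map_pow] at hab' ⊢
          linear_combination (algebraMap R A s' * algebraMap R A s) * hab' - a * hy
      exact ih a y _ (fun h =>
        (Ideal.IsPrime.mem_or_mem ‹_› h).elim ht fun h => (Ideal.IsPrime.mem_or_mem ‹_› h).elim hs' hs) hay

variable [IsDomain R] [IsIntegrallyClosed R]

omit [Algebra R A] [Module.Flat R A] in
/-- A prime of height one of a normal domain has a local uniformizer. -/
theorem exists_uniformizer {r : R} (hr : r ≠ 0) {q : Ideal R} [q.IsPrime]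
    (hq : q ∈ associatedPrimes R (R ⧸ Ideal.span {r})) :
    ∃ π ∈ q, π ≠ 0 ∧ (∀ x ∈ q, ∃ s ∉ q, π ∣ s * x) ∧ ∃ (k : ℕ) (s t : R), s ∉ q ∧ t ∉ q ∧ s * r = π ^ k * t := by
  haveI := Groth.L01.isDVR_localization_of_mem_associatedPrimes hr hq
  let S := Localization.AtPrime q
  have hinj : Function.Injective (algebraMap R S) :=
    IsLocalization.injective S (Ideal.primeCompl_le_nonZeroDivisors q)
  obtain ⟨ϖ, hϖ⟩ := IsDiscreteValuationRing.exists_irreducible S
  obtain ⟨⟨π, s₀⟩, hπ⟩ := IsLocalization.surj q.primeCompl ϖ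
  have hassoc : Associated ϖ (algebraMap R S π) := ⟨(IsLocalization.map_units S s₀).unit, hπ⟩
  have hirr : Irreducible (algebraMap R S π) := hassoc.irreducible hϖ
  have hmem : π ∈ q := (IsLocalization.AtPrime.to_map_mem_maximal_iff S q π).1
    ((IsLocalRing.mem_maximalIdeal _).2 hirr.not_isUnit)
  refine ⟨π, hmem, fun h => hirr.ne_zero (by rw [h, map_zero]), fun x hx => ?_, ?_⟩
  · have h1 : algebraMap R S x ∈ Ideal.span {algebraMap R S π} := by
      rw [← (IsDiscreteValuationRing.irreducible_iff_uniformizer _).1 hirr]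
      exact (IsLocalization.AtPrime.to_map_mem_maximal_iff S q x).2 hx
    rw [← Set.image_singleton, ← Ideal.map_span,
      IsLocalization.algebraMap_mem_map_algebraMap_iff q.primeCompl] at h1
    obtain ⟨s, hs, hd⟩ := h1
    exact ⟨s, hs, Ideal.mem_span_singleton.1 hd⟩
  · obtain ⟨k, hk⟩ := IsDiscreteValuationRing.associated_pow_irreducible
      ((map_ne_zero_iff _ hinj).2 hr) hirr
    obtain ⟨v, hv⟩ := hk
    obtain ⟨⟨t, s⟩, ht⟩ := IsLocalization.surj q.primeCompl (v : S)
    refine ⟨k, t, s, ?_, s.2, hinj ?_⟩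
    · intro h
      have h2 : IsUnit (algebraMap R S t) := ht ▸ v.isUnit.mul (IsLocalization.map_units S s)
      exact (IsLocalRing.mem_maximalIdeal _).1 ((IsLocalization.AtPrime.to_map_mem_maximal_iff S q t).2 h) h2
    · rw [map_mul, map_mul, map_pow]
      linear_combination (algebraMap R S s.1) * hv - (algebraMap R S r) * ht

/-- Divisors of a scalar along a flat local map with prime fibre kernels in codimension one come from
the base. -/
theorem exists_associated [IsLocalRing R] [IsLocalRing A] [IsLocalHom (algebraMap R A)] {a : A} {r : R}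
    (hr : r ≠ 0) (hd : a ∣ algebraMap R A r)
    (H : ∀ q : Ideal R, q.IsPrime → q.height = 1 → ∀ x y : A,
      (∃ s ∉ q, algebraMap R A s * (x * y) ∈ q.map (algebraMap R A)) →
      (∃ s ∉ q, algebraMap R A s * x ∈ q.map (algebraMap R A)) ∨
        ∃ s ∉ q, algebraMap R A s * y ∈ q.map (algebraMap R A)) :
    ∃ i, i ≠ 0 ∧ Associated (algebraMap R A i) a := by
  haveI : Module.FaithfullyFlat R A := Module.FaithfullyFlat.of_flat_of_isLocalHom
  obtain ⟨b, hb⟩ := hd
  have hnzd : ∀ {z : R}, z ≠ 0 → algebraMap R A z ∈ nonZeroDivisors A := by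
    intro z hz
    rw [mem_nonZeroDivisors_iff_right]
    intro w hw
    have hinj : Function.Injective ((LinearMap.mulLeft R z).lTensor A) :=
      Module.Flat.lTensor_preserves_injective_linearMap _ fun u v huv => mul_left_cancel₀ hz huv
    have h0 : w ⊗ₜ[R] (1 : R) = 0 := hinj (by
      rw [map_zero, LinearMap.lTensor_tmul, LinearMap.mulLeft_apply]
      show w ⊗ₜ[R] (z • (1 : R)) = 0
      rw [← smul_tmul, Algebra.smul_def, mul_comm, hw, zero_tmul])
    simpa using congrArg (TensorProduct.rid R A) h0
  have hr' := hnzd hr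
  have ha : a ∈ nonZeroDivisors A := (mul_mem_nonZeroDivisors.1 (hb ▸ hr')).1
  have hb' : b ∈ nonZeroDivisors A := (mul_mem_nonZeroDivisors.1 (hb ▸ hr')).2
  let J := Ideal.span {a}
  let I := J.comap (algebraMap R A)
  have hrI : r ∈ I := Ideal.mem_span_singleton.2 ⟨b, hb⟩
  have hI : I.map (algebraMap R A) = J := by
    refine map_comap_eq_of_local J fun q hq c hc => ?_
    haveI := hq.isPrime
    -- the prime has height one
    have hqr : q ∈ associatedPrimes R (R ⧸ Ideal.span {r}) := by
      obtain ⟨x, hxI, hrq, hx⟩ : ∃ x, x ∉ I ∧ r ∈ q ∧ ∀ s ∈ q, s * x ∈ I := by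
        obtain ⟨-, m, hm⟩ := isAssociatedPrime_iff.1 hq
        obtain ⟨x, rfl⟩ := Ideal.Quotient.mk_surjective m
        have key : ∀ s, s ∈ q ↔ s * x ∈ I := fun s => by
          rw [hm, Submodule.mem_colon_singleton, Submodule.mem_bot, ← Ideal.Quotient.eq_zero_iff_mem]
          rfl
        exact ⟨x, fun h => hq.isPrime.ne_top ((Ideal.eq_top_iff_one q).2 ((key 1).2 (by rwa [one_mul]))),
          (key r).2 (I.mul_mem_right x hrI), fun s => (key s).1⟩
      have hxb : algebraMap R A x * b ∉ (Ideal.span {r}).map (algebraMap R A) := by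
        rw [Ideal.map_span, Set.image_singleton, Ideal.mem_span_singleton]
        rintro ⟨v, hv⟩
        refine hxI (Ideal.mem_span_singleton.2 ⟨v, (mul_cancel_right_mem_nonZeroDivisors hb').1 ?_⟩)
        rw [hv, hb]; ring
      have hfin : (associatedPrimes R (R ⧸ Ideal.span {r})).Finite := associatedPrimes.finite R _
      have hsub : (q : Set R) ⊆ ⋃ P ∈ (hfin.toFinset : Set (Ideal R)), (P : Set R) := by
        intro s hs
        by_contra hs'
        simp only [Set.mem_iUnion, Set.Finite.coe_toFinset, not_exists] at hs'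
        refine hxb (mem_map_of_local _ _ fun P hP => ⟨s, hs' P hP, ?_⟩)
        rw [Ideal.map_span, Set.image_singleton, Ideal.mem_span_singleton, ← mul_assoc, ← map_mul, hb]
        obtain ⟨v, hv⟩ := Ideal.mem_span_singleton.1 (hx s hs)
        exact ⟨v, by rw [hv]; ring⟩
      obtain ⟨P, hP, hle⟩ := (Ideal.subset_union_prime (f := id) ⊥ ⊥
        fun P hP _ _ => (hfin.mem_toFinset.1 hP).isPrime).1 hsub
      have hP' := hfin.mem_toFinset.1 hP
      haveI := hP'.isPrime
      have hh := Groth.L01.height_eq_one_of_mem_associatedPrimes hr hP'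
      rcases hle.lt_or_eq with hlt | rfl
      · exfalso
        change q < P at hlt
        haveI : P.FiniteHeight := ⟨Or.inr (by rw [hh]; exact ENat.one_ne_top)⟩
        haveI : q.FiniteHeight := Ideal.finiteHeight_of_le (le_of_lt hlt) ((inferInstance : P.IsPrime).ne_top)
        have h2 := Ideal.height_strict_mono_of_isPrime (I := q) hlt
        rw [hh, Order.lt_one_iff, Ideal.height_eq_zero_iff,
          IsDomain.minimalPrimes_eq_singleton_bot, Set.mem_singleton_iff] at h2
        exact hr (by simpa [h2] using hrq)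
      · exact hP'
    obtain ⟨π, hπq, hπ0, hπ, k, s, t, hs, ht, hst⟩ := exists_uniformizer hr hqr
    have hπA : ∀ z ∈ q.map (algebraMap R A), ∃ s ∉ q, algebraMap R A π ∣ algebraMap R A s * z := by
      intro z hz
      induction hz using Submodule.span_induction with
      | mem z hz =>
        obtain ⟨x, hx, rfl⟩ := hz
        obtain ⟨s, hs, hd⟩ := hπ x hx
        exact ⟨s, hs, by rw [← map_mul]; exact map_dvd _ hd⟩
      | zero => exact ⟨1, fun h => hq.isPrime.ne_top ((Ideal.eq_top_iff_one q).2 h), by rw [mul_zero]; exact dvd_zero _⟩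
      | add x y _ _ hx hy =>
        obtain ⟨s₁, h₁, d₁⟩ := hx
        obtain ⟨s₂, h₂, d₂⟩ := hy
        refine ⟨s₁ * s₂, fun h => (Ideal.IsPrime.mem_or_mem hq.isPrime h).elim h₁ h₂, ?_⟩
        rw [map_mul, mul_add]
        refine dvd_add ?_ ?_
        · rw [mul_right_comm]; exact d₁.mul_right _
        · rw [mul_assoc]; exact d₂.mul_left _
      | smul x z _ hz =>
        obtain ⟨s₁, h₁, d₁⟩ := hz
        exact ⟨s₁, h₁, by rw [smul_eq_mul, mul_left_comm]; exact d₁.mul_left _⟩
    obtain ⟨i, hai, s', hs', hi⟩ := exists_pow_factor q π (hnzd hπ0) hπA hπq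
      (H q hq.isPrime (Groth.L01.height_eq_one_of_mem_associatedPrimes hr hqr)) k a (algebraMap R A s * b) t ht
      (by rw [← hst, map_mul, hb]; ring)
    refine ⟨s', hs', ?_⟩
    obtain ⟨v, hv⟩ := Ideal.mem_span_singleton.1 hc
    obtain ⟨w, hw⟩ := hi
    rw [hv, ← mul_assoc, hw, mul_assoc]
    exact Ideal.mul_mem_right _ _ (Ideal.mem_map_of_mem _ (Ideal.mem_span_singleton.2 hai))
  obtain ⟨i, -, hi⟩ := exists_gen_of_map_eq_span I ha hI
  refine ⟨i, fun h0 => ?_, hi⟩
  rw [h0, map_zero] at hi
  exact nonZeroDivisors.ne_zero ha ((associated_zero_iff_eq_zero a).1 hi.symm)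

end Normal

end Groth.L20.SeeNormal
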