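import Groth.Agent.L20.SeeNormal.FibreRing
import Groth.Agent.L18.Frame
import Groth.Prelude.Def_Pi1
import Mathlib.AlgebraicGeometry.Morphisms.Flat
import Mathlib.AlgebraicGeometry.Morphisms.UniversallyOpen
import Mathlib.AlgebraicGeometry.Noetherian

/-!
# Charts for modules trivial on the generic fibre over a normal base

Near every fibre of a flat morphism to a normal base, with integral fibres in codimension one, an
invertible module trivialised on the generic fibre has a frame which differs from the trivialisation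
by a quotient of scalars.
-/

set_option autoImplicit false
set_option linter.style.haveILetI false
set_option linter.unusedSectionVars false
set_option backward.isDefEq.respectTransparency false
set_option backward.isDefEq.respectTransparency.types false
universe u

open CategoryTheory CategoryTheory.Limits AlgebraicGeometry TopologicalSpace Opposite

noncomputable section

namespace Groth.L20.SeeNormal

open Groth.L18.Frame (rs ro pull IsFrame rs_rs rs_smul rs_self ro_ro ro_self pull_rs pull_smul)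

variable {X Y : Scheme.{u}} (f : X ⟶ Y)

theorem primeIdealOf_fromSpec {U : Y.Opens} (hU : IsAffineOpen U) (q : Spec Γ(Y, U)) (h : hU.fromSpec q ∈ U) :
    hU.primeIdealOf ⟨hU.fromSpec q, h⟩ = q :=
  hU.fromSpec.isOpenEmbedding.injective (hU.fromSpec_primeIdealOf _)

theorem fromSpec_mem {U : Y.Opens} (hU : IsAffineOpen U) (q : Spec Γ(Y, U)) : hU.fromSpec q ∈ U := by
  have : hU.fromSpec q ∈ Set.range hU.fromSpec := ⟨q, rfl⟩
  rwa [hU.range_fromSpec] at this

/-- The point of an affine open given by a prime below that of a given point. -/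
theorem exists_generization {U : Y.Opens} (hU : IsAffineOpen U) {y : Y} (hy : y ∈ U) (P : Ideal Γ(Y, U))
    [hP : P.IsPrime] (hle : P ≤ (hU.primeIdealOf ⟨y, hy⟩).asIdeal) :
    ∃ (y' : Y) (hy' : y' ∈ U), y' ⤳ y ∧ (hU.primeIdealOf ⟨y', hy'⟩).asIdeal = P ∧
      ringKrullDim (Y.presheaf.stalk y') = P.height := by
  let z : Spec Γ(Y, U) := ⟨P, hP⟩
  have hz := fromSpec_mem hU z
  have hPz := congrArg PrimeSpectrum.asIdeal (primeIdealOf_fromSpec hU z hz)
  refine ⟨hU.fromSpec z, hz, ?_, hPz, ?_⟩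
  · have h1 : z ⤳ hU.primeIdealOf ⟨y, hy⟩ := (PrimeSpectrum.le_iff_specializes _ _).1 hle
    have h2 := h1.map hU.fromSpec.continuous
    rwa [hU.fromSpec_primeIdealOf] at h2
  · letI := Y.presheaf.algebra_section_stalk ⟨hU.fromSpec z, hz⟩
    haveI := hU.isLocalization_stalk ⟨hU.fromSpec z, hz⟩
    rw [IsLocalization.AtPrime.ringKrullDim_eq_height (hU.primeIdealOf ⟨hU.fromSpec z, hz⟩).asIdeal
      (Y.presheaf.stalk (hU.fromSpec z)), hPz]

/-- The kernel to a codimension one fibre is prime at a stalk. -/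
theorem stalk_prime_cond [Flat f]
    (hfib : ∀ y : Y, ringKrullDim (Y.presheaf.stalk y) = 1 → IsIntegral (f.fiber y))
    {U : Y.Opens} (hU : IsAffineOpen U) {W : X.Opens} (hW : IsAffineOpen W) (hWU : W ≤ f ⁻¹ᵁ U)
    (x : X) (hx : x ∈ W) :
    letI := (f.stalkMap x).hom.toAlgebra
    ∀ q : Ideal (Y.presheaf.stalk (f x)), q.IsPrime → q.height = 1 → ∀ a b : X.presheaf.stalk x,
      (∃ s ∉ q, algebraMap (Y.presheaf.stalk (f x)) (X.presheaf.stalk x) s * (a * b) ∈ q.map (algebraMap _ _)) →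
      (∃ s ∉ q, algebraMap (Y.presheaf.stalk (f x)) (X.presheaf.stalk x) s * a ∈ q.map (algebraMap _ _)) ∨
        ∃ s ∉ q, algebraMap (Y.presheaf.stalk (f x)) (X.presheaf.stalk x) s * b ∈ q.map (algebraMap _ _) := by
  intro q hq hht a b hab
  have hy : f x ∈ U := hWU hx
  let C := Γ(Y, U)
  let B := Γ(X, W)
  let R := Y.presheaf.stalk (f x)
  let A := X.presheaf.stalk x
  letI := Y.presheaf.algebra_section_stalk ⟨f x, hy⟩
  haveI := hU.isLocalization_stalk ⟨f x, hy⟩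
  letI := X.presheaf.algebra_section_stalk ⟨x, hx⟩
  haveI := hW.isLocalization_stalk ⟨x, hx⟩
  let g := f.appLE U W hWU
  let gy : C →+* R := algebraMap C R
  let gx : B →+* A := algebraMap B A
  let st : R →+* A := (f.stalkMap x).hom
  have hg : ∀ c, st (gy c) = gx (g c) := fun c => by
    show f.stalkMap x (Y.presheaf.germ U (f x) hy c) = X.presheaf.germ W x hx (f.appLE U W hWU c)
    rw [Scheme.Hom.germ_stalkMap_apply, Scheme.Hom.appLE, CommRingCat.comp_apply, TopCat.Presheaf.germ_res_apply]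
  let P := q.comap gy
  haveI : P.IsPrime := hq.comap gy
  have hle : P ≤ (hU.primeIdealOf ⟨f x, hy⟩).asIdeal := by
    intro c hc
    rw [← IsLocalization.AtPrime.to_map_mem_maximal_iff R (hU.primeIdealOf ⟨f x, hy⟩).asIdeal]
    exact IsLocalRing.le_maximalIdeal hq.ne_top hc
  obtain ⟨y', hy', -, hP, hdim⟩ := exists_generization hU hy P hle
  have hhP : P.height = 1 := by
    rw [← hht]; exact IsLocalization.height_under (hU.primeIdealOf ⟨f x, hy⟩).asIdeal.primeCompl q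
  haveI := hfib y' (by rw [hdim, hhP]; rfl)
  obtain ⟨-, hker, hun⟩ := fibre_ring f hU hW hWU hy'
  rw [hP] at hker hun
  have hmap : q.map st = (P.map g.hom).map gx := by
    rw [Ideal.map_map, show gx.comp g.hom = st.comp gy from RingHom.ext fun c => (hg c).symm, ← Ideal.map_map]
    congr 1
    exact (IsLocalization.map_comap (hU.primeIdealOf ⟨f x, hy⟩).asIdeal.primeCompl R q).symm
  let κ : B →+* Γ(f.fiber y', f.fiberι y' ⁻¹ᵁ W) := ((f.fiberι y').app W).hom
  have hback : ∀ b : B, κ b = 0 → ∀ v, (∃ t : B, IsUnit (gx t) ∧ gx b = gx t * v) →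
      ∃ s ∉ q, st s * v ∈ q.map st := by
    intro b hb v ⟨t, ht, hv⟩
    obtain ⟨s, hs, hsb⟩ := (hker b).1 hb
    refine ⟨gy s, hs, ?_⟩
    rw [hmap, hg, ← Ideal.unit_mul_mem_iff_mem _ ht, mul_left_comm, ← hv, ← map_mul]
    exact Ideal.mem_map_of_mem _ hsb
  obtain ⟨s, hs, hsab⟩ := hab
  obtain ⟨⟨a₀, ta⟩, ha⟩ := IsLocalization.surj (hW.primeIdealOf ⟨x, hx⟩).asIdeal.primeCompl a
  obtain ⟨⟨b₀, tb⟩, hb⟩ := IsLocalization.surj (hW.primeIdealOf ⟨x, hx⟩).asIdeal.primeCompl b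
  obtain ⟨⟨c, tc⟩, hc⟩ := IsLocalization.surj (hU.primeIdealOf ⟨f x, hy⟩).asIdeal.primeCompl s
  have hcq : c ∉ P := by
    intro h
    have h1 : s * gy tc.1 ∈ q := by rw [hc]; exact h
    rcases hq.mem_or_mem h1 with h2 | h2
    · exact hs h2
    · exact hq.ne_top (Ideal.eq_top_of_isUnit_mem _ h2 (IsLocalization.map_units R tc))
  have h1 : gx (g c * (a₀ * b₀)) ∈ (P.map g.hom).map gx := by
    rw [← hmap]
    have : gx (g c * (a₀ * b₀)) = (st (gy tc.1) * gx ta.1 * gx tb.1) * (st s * (a * b)) := by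
      simp only [map_mul, ← hg]
      rw [show st (gy c) = st s * st (gy tc.1) by rw [← map_mul, hc]]
      linear_combination (- st s * st (gy tc.1) * gx b₀) * ha - (st s * st (gy tc.1) * gx ta.1 * a) * hb
    rw [this]
    exact Ideal.mul_mem_left _ _ hsab
  rw [IsLocalization.algebraMap_mem_map_algebraMap_iff (hW.primeIdealOf ⟨x, hx⟩).asIdeal.primeCompl] at h1
  obtain ⟨w, hw, hwab⟩ := h1
  have h0 : κ ((w * a₀) * b₀) = 0 := by
    refine (hker _).2 ⟨c, hcq, ?_⟩
    convert hwab using 1; ring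
  have hwu : IsUnit (gx w) := IsLocalization.map_units A (⟨w, hw⟩ : (hW.primeIdealOf ⟨x, hx⟩).asIdeal.primeCompl)
  rcases isEmpty_or_nonempty (f.fiberι y' ⁻¹ᵁ W : (f.fiber y').Opens) with hem | hne
  · haveI : Subsingleton Γ(f.fiber y', f.fiberι y' ⁻¹ᵁ W) := by
      have hbot : f.fiberι y' ⁻¹ᵁ W = ⊥ := by
        ext z; exact ⟨fun hz => hem.elim' ⟨z, hz⟩, fun hz => hz.elim⟩
      rw [hbot]
      infer_instance
    exact .inl (hback a₀ (Subsingleton.elim _ _) a ⟨ta.1, IsLocalization.map_units A ta, by rw [← ha, mul_comm]⟩)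
  · haveI := hne
    rw [map_mul] at h0
    rcases mul_eq_zero.1 h0 with h | h
    · exact .inl (hback _ h a ⟨w * ta.1, by rw [map_mul]; exact hwu.mul (IsLocalization.map_units A ta),
        by simp only [map_mul]; linear_combination (-(gx w)) * ha⟩)
    · exact .inr (hback _ h b ⟨tb.1, IsLocalization.map_units A tb, by rw [← hb, mul_comm]⟩)

/-- Scalars of the base on the trace of an open on the fibre. -/
def cst (η : Y) {U : Y.Opens} {W : X.Opens} (h : W ≤ f ⁻¹ᵁ U) (c : Γ(Y, U)) :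
    Γ(f.fiber η, f.fiberι η ⁻¹ᵁ W) :=
  (f.fiberι η).app W (f.appLE U W h c)

theorem cst_eq (η : Y) {U : Y.Opens} {W : X.Opens} (h : W ≤ f ⁻¹ᵁ U) (c : Γ(Y, U)) :
    cst f η h c = (f.fiberι η ≫ f).appLE U (f.fiberι η ⁻¹ᵁ W) ((f.fiberι η).preimage_mono h) c := by
  rw [← Scheme.Hom.appLE_comp_appLE (f.fiberι η) f U W (f.fiberι η ⁻¹ᵁ W) h le_rfl, Scheme.Hom.appLE_eq_app]
  rfl

theorem ro_cst (η : Y) {U : Y.Opens} {W W' : X.Opens} (h : W ≤ f ⁻¹ᵁ U) (h' : W' ≤ W) (c : Γ(Y, U)) :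
    ro ((f.fiberι η).preimage_mono h') (cst f η h c) = cst f η (h'.trans h) c := by
  rw [cst_eq, cst_eq]
  show ((f.fiberι η ≫ f).appLE U _ _ ≫ (f.fiber η).presheaf.map _) c = _
  rw [Scheme.Hom.appLE_map]

/-- Nonzero scalars are units on the generic fibre. -/
theorem isUnit_cst {η : Y} {U : Y.Opens} (hU : IsAffineOpen U) (hη : η ∈ U)
    (hbot : (hU.primeIdealOf ⟨η, hη⟩).asIdeal = ⊥) {W : X.Opens} (h : W ≤ f ⁻¹ᵁ U) {c : Γ(Y, U)} (hc : c ≠ 0) :
    IsUnit (cst f η h c) := by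
  have hηc : η ∈ Y.basicOpen c := by
    have h2 : hU.primeIdealOf ⟨η, hη⟩ ∈ PrimeSpectrum.basicOpen c := fun hh => hc (by simpa using hbot.le hh)
    rw [← hU.fromSpec_preimage_basicOpen] at h2
    have h3 : hU.fromSpec (hU.primeIdealOf ⟨η, hη⟩) ∈ Y.basicOpen c := h2
    rwa [hU.fromSpec_primeIdealOf] at h3
  have hle : f.fiberι η ⁻¹ᵁ W ≤ (f.fiberι η ≫ f) ⁻¹ᵁ Y.basicOpen c := fun z _ => by
    have hz : f.fiberι η z ∈ f ⁻¹' {η} := by rw [← f.range_fiberι]; exact ⟨z, rfl⟩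
    show f (f.fiberι η z) ∈ Y.basicOpen c
    rw [Set.mem_singleton_iff.1 hz]
    exact hηc
  rw [cst_eq, show (f.fiberι η ≫ f).appLE U (f.fiberι η ⁻¹ᵁ W) ((f.fiberι η).preimage_mono h) =
      Y.presheaf.map (homOfLE (Y.basicOpen_le c)).op ≫ (f.fiberι η ≫ f).appLE _ _ hle from
    (Scheme.Hom.map_appLE _ _ _).symm]
  exact (RingedSpace.isUnit_res_basicOpen Y.toRingedSpace c).map ((f.fiberι η ≫ f).appLE _ _ hle).hom

/-- Functions near the generic fibre are determined by their restriction to it. -/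
theorem fiberι_app_injective [Flat f] {η : Y} {U : Y.Opens} (hU : IsAffineOpen U) (hη : η ∈ U)
    [IsDomain Γ(Y, U)] (hbot : (hU.primeIdealOf ⟨η, hη⟩).asIdeal = ⊥) {W : X.Opens} (hWU : W ≤ f ⁻¹ᵁ U) :
    Function.Injective ((f.fiberι η).app W) := by
  have key : ∀ W' : X.Opens, IsAffineOpen W' → W' ≤ f ⁻¹ᵁ U →
      ∀ b : Γ(X, W'), (f.fiberι η).app W' b = 0 → b = 0 := by
    intro W' hW' h b hb
    obtain ⟨s, hs, hsb⟩ := ((fibre_ring f hU hW' h hη).2.1 b).1 hb
    rw [hbot, Ideal.map_bot, Ideal.mem_bot] at hsb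
    rw [hbot, Ideal.mem_bot] at hs
    letI := (f.appLE U W' h).hom.toAlgebra
    haveI : Module.Flat Γ(Y, U) Γ(X, W') := f.flat_appLE hU hW' h
    haveI : Module.IsTorsionFree Γ(Y, U) Γ(X, W') := inferInstance
    exact (smul_eq_zero.1 (show s • b = 0 by rw [Algebra.smul_def]; exact hsb)).resolve_left hs
  refine (injective_iff_map_eq_zero _).2 fun b hb => ?_
  refine Groth.L21.Extend.eq_of_locally (Coh.structureModule X) b 0 fun x hx => ?_
  obtain ⟨W', hW', hxW', hle⟩ := exists_isAffineOpen_mem_and_subset (x := x) (U := W) hx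
  refine ⟨W', hle, hxW', ?_⟩
  refine Eq.trans ?_ (map_zero (X.presheaf.map (homOfLE hle).op).hom).symm
  refine key W' hW' ((hle : W' ≤ W).trans hWU) _ ?_
  show (X.presheaf.map (homOfLE hle).op ≫ (f.fiberι η).app W') b = 0
  rw [Scheme.Hom.naturality, CommRingCat.comp_apply, hb, map_zero]

section Good

variable (L : X.Modules) (η : Y) (σ : Γ((Scheme.Modules.pullback (f.fiberι η)).obj L, ⊤))
  (U : Y.Opens) (p q : Γ(Y, U))

/-- A frame over `W` proportional to the trivialisation by the ratio of two scalars. -/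
def Good (W : X.Opens) : Prop :=
  ∃ (h : W ≤ f ⁻¹ᵁ U) (e : Γ(L, W)), IsFrame L W e ∧
    cst f η h p • pull (f.fiberι η) L W e = cst f η h q • rs _ (le_top : f.fiberι η ⁻¹ᵁ W ≤ ⊤) σ

variable {f L η σ U p q}

theorem Good.le {W : X.Opens} (h : Good f L η σ U p q W) : W ≤ f ⁻¹ᵁ U := h.choose

theorem rel_mono {W W' : X.Opens} (h : W ≤ f ⁻¹ᵁ U) (hle : W' ≤ W) {e : Γ(L, W)}
    (he : cst f η h p • pull (f.fiberι η) L W e = cst f η h q • rs _ (le_top : f.fiberι η ⁻¹ᵁ W ≤ ⊤) σ) :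
    cst f η (hle.trans h) p • pull (f.fiberι η) L W' (rs L hle e) =
      cst f η (hle.trans h) q • rs _ (le_top : f.fiberι η ⁻¹ᵁ W' ≤ ⊤) σ := by
  have := congrArg (rs ((Scheme.Modules.pullback (f.fiberι η)).obj L) ((f.fiberι η).preimage_mono hle)) he
  rwa [rs_smul, rs_smul, ro_cst f η h hle, ro_cst f η h hle, pull_rs, rs_rs] at this

theorem Good.mono {W W' : X.Opens} (h : Good f L η σ U p q W) (hle : W' ≤ W) : Good f L η σ U p q W' := by
  obtain ⟨h, e, he, hrel⟩ := h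
  exact ⟨hle.trans h, rs L hle e, he.mono hle, rel_mono h hle hrel⟩

variable [Flat f] (hU : IsAffineOpen U) (hη : η ∈ U) [IsDomain Γ(Y, U)]
  (hbot : (hU.primeIdealOf ⟨η, hη⟩).asIdeal = ⊥)

include hbot in
theorem frame_unique (hp : p ≠ 0) {W : X.Opens} (h : W ≤ f ⁻¹ᵁ U) {e e' : Γ(L, W)}
    (he : IsFrame L W e)
    (h1 : cst f η h p • pull (f.fiberι η) L W e = cst f η h q • rs _ (le_top : f.fiberι η ⁻¹ᵁ W ≤ ⊤) σ)
    (h2 : cst f η h p • pull (f.fiberι η) L W e' = cst f η h q • rs _ (le_top : f.fiberι η ⁻¹ᵁ W ≤ ⊤) σ) :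
    e = e' := by
  obtain ⟨c, hc⟩ := he.exists_coeff le_rfl e'
  rw [rs_self] at hc
  have h3 : pull (f.fiberι η) L W e = pull (f.fiberι η) L W e' :=
    (isUnit_cst f hU hη hbot h hp).smul_left_cancel.1 (h1.trans h2.symm)
  rw [← hc, pull_smul] at h3
  have h4 : (f.fiberι η).app W c = 1 := by
    refine (he.pullback (f.fiberι η) L).inj le_rfl ?_
    rw [rs_self, one_smul]
    exact h3.symm
  rw [← hc, fiberι_app_injective f hU hη hbot h (h4.trans (map_one _).symm), one_smul]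

include hbot in
/-- Good frames glue. -/
theorem Good.glue (hp : p ≠ 0) {ι' : Type u} (W : ι' → X.Opens) (W₀ : X.Opens) (hW : ∀ i, W i ≤ W₀)
    (hcov : W₀ ≤ iSup W) (h0 : W₀ ≤ f ⁻¹ᵁ U) (h : ∀ i, Good f L η σ U p q (W i)) : Good f L η σ U p q W₀ := by
  choose hle e he hrel using h
  obtain ⟨t, ht⟩ := Groth.L21.Extend.exists_glue L W W₀ hW (fun y hy => Opens.mem_iSup.1 (hcov hy)) e fun i j =>
    frame_unique hU hη hbot hp (inf_le_left.trans (hle i)) ((he i).mono inf_le_left)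
      (rel_mono (hle i) inf_le_left (hrel i)) (rel_mono (hle j) inf_le_right (hrel j))
  refine ⟨h0, t, IsFrame.of_cover W hW hcov fun i => ?_, ?_⟩
  · rw [show rs L (hW i) t = e i from ht i]; exact he i
  · refine Groth.L21.Extend.eq_of_locally _ _ _ fun z hz => ?_
    obtain ⟨i, hi⟩ := Opens.mem_iSup.1 (hcov (show f.fiberι η z ∈ W₀ from hz))
    refine ⟨f.fiberι η ⁻¹ᵁ W i, (f.fiberι η).preimage_mono (hW i), hi, ?_⟩
    show rs ((Scheme.Modules.pullback (f.fiberι η)).obj L) _ _ = rs ((Scheme.Modules.pullback (f.fiberι η)).obj L) _ _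
    rw [rs_smul, rs_smul, ro_cst f η h0 (hW i), ro_cst f η h0 (hW i), pull_rs (f.fiberι η) L (hW i), rs_rs, show rs L (hW i) t = e i from ht i]
    exact hrel i

include hbot in
/-- Two charts at one point differ by scalars associated there. -/
theorem associated_of_good {p' q' : Γ(Y, U)} {W W' : X.Opens} (hσ : IsFrame _ ⊤ σ)
    (h : Good f L η σ U p q W) (h' : Good f L η σ U p' q' W') {x : X} (hx : x ∈ W) (hx' : x ∈ W')
    (hy : f x ∈ U) :
    ∃ (V : X.Opens) (hxV : x ∈ V) (hVW : V ≤ W ⊓ W') (u : Γ(X, V)), IsUnit u ∧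
      f.appLE U V ((hVW.trans inf_le_left).trans h.le) (q' * p) * u =
        f.appLE U V ((hVW.trans inf_le_left).trans h.le) (q * p') := by
  obtain ⟨hle, e, he, hrel⟩ := h
  obtain ⟨hle', e', he', hrel'⟩ := h'
  let V := W ⊓ W'
  have heV := he.mono (inf_le_left : V ≤ W)
  have he'V := he'.mono (inf_le_right : V ≤ W')
  obtain ⟨c, hc⟩ := he'V.exists_coeff le_rfl (rs L inf_le_left e)
  rw [rs_self] at hc
  have hcu : IsUnit c := Groth.L18.Frame.isUnit_of_isFrame he'V (hc ▸ heV)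
  refine ⟨V, ⟨hx, hx'⟩, le_rfl, c, hcu, ?_⟩
  have h1 := rel_mono hle (inf_le_left : V ≤ W) hrel
  have h2 := rel_mono hle' (inf_le_right : V ≤ W') hrel'
  refine fiberι_app_injective f hU hη hbot (inf_le_left.trans hle : V ≤ f ⁻¹ᵁ U) ?_
  refine (he'V.pullback (f.fiberι η) L).inj le_rfl ?_
  rw [rs_self, map_mul, map_mul, map_mul]
  show ((cst f η _ q' * cst f η _ p) * (f.fiberι η).app V c) • _ = (f.fiberι η).app V (f.appLE U V _ (q * p')) • _
  rw [mul_smul, ← pull_smul, hc, mul_smul, h1, ← mul_smul, mul_comm, mul_smul, ← h2, ← mul_smul, map_mul, map_mul]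
  rfl

include hbot in
/-- A chart near a point. -/
theorem exists_good_near [IsLocallyNoetherian X] [IsLocallyNoetherian Y] (hY : Pi1.IsNormalScheme Y)
    (hfib : ∀ y : Y, ringKrullDim (Y.presheaf.stalk y) = 1 → IsIntegral (f.fiber y))
    (hL : PicF.IsInvertible L) (hσ : IsFrame _ ⊤ σ) (x : X) (hxU : f x ∈ U) :
    ∃ (p q : Γ(Y, U)) (W : X.Opens), p ≠ 0 ∧ q ≠ 0 ∧ x ∈ W ∧ Good f L η σ U p q W := by
  obtain ⟨W₀, e₀, hxW₀, he₀⟩ := Groth.L18.Frame.exists_frame hL x
  obtain ⟨W, hW, hxW, hle⟩ := exists_isAffineOpen_mem_and_subset (x := x) (U := W₀ ⊓ f ⁻¹ᵁ U) ⟨hxW₀, hxU⟩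
  have hWU : W ≤ f ⁻¹ᵁ U := fun z hz => (hle hz).2
  obtain ⟨e, he⟩ : ∃ e : Γ(L, W), IsFrame L W e := ⟨_, he₀.mono (fun z hz => (hle hz).1 : W ≤ W₀)⟩
  have hpe := he.pullback (f.fiberι η) L
  have hσW := hσ.mono (le_top : f.fiberι η ⁻¹ᵁ W ≤ ⊤)
  obtain ⟨h, hh⟩ := hpe.exists_coeff le_rfl (rs _ (le_top : f.fiberι η ⁻¹ᵁ W ≤ ⊤) σ)
  rw [rs_self] at hh
  obtain ⟨h', hh'⟩ := (Groth.L18.Frame.isUnit_of_isFrame hpe (hh ▸ hσW)).exists_right_inv
  obtain ⟨hfrac, -, -⟩ := fibre_ring f hU hW hWU hη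
  obtain ⟨a, r, hr, har⟩ := hfrac h
  obtain ⟨b, r', hr', hbr⟩ := hfrac h'
  rw [hbot, Ideal.mem_bot] at hr hr'
  have hab : a * b = f.appLE U W hWU (r * r') := fiberι_app_injective f hU hη hbot hWU (by
    rw [map_mul, ← har, ← hbr, map_mul, map_mul]
    linear_combination ((f.fiberι η).app W (f.appLE U W hWU r) * (f.fiberι η).app W (f.appLE U W hWU r')) * hh')
  letI := Y.presheaf.algebra_section_stalk ⟨f x, hxU⟩
  haveI := hU.isLocalization_stalk ⟨f x, hxU⟩
  letI := (f.stalkMap x).hom.toAlgebra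
  haveI : IsLocalHom (algebraMap (Y.presheaf.stalk (f x)) (X.presheaf.stalk x)) :=
    inferInstanceAs (IsLocalHom (f.stalkMap x).hom)
  haveI : Module.Flat (Y.presheaf.stalk (f x)) (X.presheaf.stalk x) := Flat.stalkMap f x
  haveI := (hY (f x)).1
  haveI := (hY (f x)).2
  have hinj : Function.Injective (algebraMap Γ(Y, U) (Y.presheaf.stalk (f x))) :=
    IsLocalization.injective _ (Ideal.primeCompl_le_nonZeroDivisors (hU.primeIdealOf ⟨f x, hxU⟩).asIdeal)
  have hst : ∀ (V : X.Opens) (hV : V ≤ f ⁻¹ᵁ U) (hxV : x ∈ V) (c : Γ(Y, U)),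
      algebraMap (Y.presheaf.stalk (f x)) (X.presheaf.stalk x) (algebraMap Γ(Y, U) (Y.presheaf.stalk (f x)) c) =
        X.presheaf.germ V x hxV (f.appLE U V hV c) := fun V hV hxV c => by
    show f.stalkMap x (Y.presheaf.germ U (f x) hxU c) = _
    rw [Scheme.Hom.germ_stalkMap_apply, Scheme.Hom.appLE, CommRingCat.comp_apply, TopCat.Presheaf.germ_res_apply]
  obtain ⟨i, hi0, hi⟩ := exists_associated (a := X.presheaf.germ W x hxW a)
    (r := algebraMap Γ(Y, U) (Y.presheaf.stalk (f x)) (r * r')) ((map_ne_zero_iff _ hinj).2 (mul_ne_zero hr hr'))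
    ⟨X.presheaf.germ W x hxW b, by rw [hst W hWU hxW, ← hab, map_mul]⟩
    (stalk_prime_cond f hfib hU hW hWU x hxW)
  obtain ⟨⟨i', t⟩, hit⟩ := IsLocalization.surj (hU.primeIdealOf ⟨f x, hxU⟩).asIdeal.primeCompl i
  have hi'0 : i' ≠ 0 := by
    intro h0
    have h1 : i * algebraMap Γ(Y, U) (Y.presheaf.stalk (f x)) t.1 = 0 := by rw [hit, h0, map_zero]
    exact hi0 (((IsLocalization.map_units (Y.presheaf.stalk (f x)) t).mul_left_eq_zero).1 h1)
  have hi' : Associated (algebraMap (Y.presheaf.stalk (f x)) (X.presheaf.stalk x)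
      (algebraMap Γ(Y, U) (Y.presheaf.stalk (f x)) i')) (X.presheaf.germ W x hxW a) := by
    rw [← hit, map_mul]
    exact (associated_mul_unit_left _ _ ((IsLocalization.map_units (Y.presheaf.stalk (f x)) t).map _)).trans hi
  obtain ⟨v, hv⟩ := hi'
  obtain ⟨V₁, hxV₁, c, hc⟩ := X.presheaf.exists_germ_eq (v : X.presheaf.stalk x)
  let V₂ : X.Opens := W ⊓ X.basicOpen c
  have hcu : x ∈ X.basicOpen c := (X.mem_basicOpen c x hxV₁).2 (by rw [hc]; exact v.isUnit)
  have e1 : X.presheaf.germ V₂ x ⟨hxW, hcu⟩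
      (f.appLE U V₂ (inf_le_left.trans hWU) i' * ro (inf_le_right.trans (X.basicOpen_le c)) c) =
      X.presheaf.germ V₂ x ⟨hxW, hcu⟩ (ro inf_le_left a) := by
    rw [map_mul, ← hst V₂ (inf_le_left.trans hWU) ⟨hxW, hcu⟩, TopCat.Presheaf.germ_res_apply, TopCat.Presheaf.germ_res_apply,
      hc]
    exact hv
  obtain ⟨V, hxV, i₁, i₂, e2⟩ := TopCat.Presheaf.germ_eq X.presheaf (U := V₂) (V := V₂) x ⟨hxW, hcu⟩ ⟨hxW, hcu⟩ _ _ e1
  have hVW : V ≤ W := i₁.le.trans inf_le_left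
  have hu : IsUnit (ro ((i₁.le.trans inf_le_right).trans (X.basicOpen_le c)) c) := by
    have := (RingedSpace.isUnit_res_basicOpen X.toRingedSpace c).map
      (X.presheaf.map (homOfLE (i₁.le.trans inf_le_right : V ≤ X.basicOpen c)).op).hom
    rw [show ro ((i₁.le.trans inf_le_right).trans (X.basicOpen_le c)) c = ro (i₁.le.trans inf_le_right) (ro (X.basicOpen_le c) c) from
      (ro_ro _ _ _).symm]
    exact this
  have e3 : f.appLE U V (hVW.trans hWU) i' * ro ((i₁.le.trans inf_le_right).trans (X.basicOpen_le c)) c = ro hVW a := by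
    have e2' : ro i₁.le (f.appLE U V₂ (inf_le_left.trans hWU) i' * ro (inf_le_right.trans (X.basicOpen_le c)) c) =
        ro i₁.le (ro inf_le_left a) := e2
    rw [Groth.L18.Frame.ro_mul, ro_ro, ro_ro, show ro i₁.le (f.appLE U V₂ (inf_le_left.trans hWU) i') =
      f.appLE U V (hVW.trans hWU) i' from congr($(Scheme.Hom.appLE_map f (inf_le_left.trans hWU) (homOfLE i₁.le).op) i')] at e2'
    exact e2'
  refine ⟨i', r, V, hi'0, hr, hxV, hVW.trans hWU, _, (he.mono hVW).smul_unit hu, ?_⟩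
  rw [pull_smul, smul_smul]
  show ((f.fiberι η).app V (f.appLE U V (hVW.trans hWU) i') * _) • _ = _
  rw [← map_mul, e3]
  have h5 := congrArg (rs ((Scheme.Modules.pullback (f.fiberι η)).obj L) ((f.fiberι η).preimage_mono hVW))
    (show (f.fiberι η).app W a • pull (f.fiberι η) L W e = cst f η hWU r • rs _ le_top σ by
      rw [← har, mul_smul, hh]; rfl)
  rw [rs_smul, rs_smul, ro_cst f η hWU hVW, pull_rs (f.fiberι η) L hVW, rs_rs] at h5
  rw [← h5]
  congr 1
  exact congr($(Scheme.Hom.naturality (f.fiberι η) (homOfLE hVW).op) a)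

end Good

end Groth.L20.SeeNormal
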