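import Groth.Agent.L20.SeeNormal.Nhd
import Groth.Agent.L07.RatSection
import Groth.Agent.L22.PicGlue.GensIso

/-!
# Descent of invertible modules trivial on the maximal fibres over a normal base
-/

set_option autoImplicit false
set_option linter.style.haveILetI false
set_option linter.unusedSectionVars false
set_option backward.isDefEq.respectTransparency false
set_option backward.isDefEq.respectTransparency.types false
universe u

open CategoryTheory CategoryTheory.Limits AlgebraicGeometry TopologicalSpace Opposite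

noncomputable section

namespace Groth.L20.SeeNormal

open Groth.L18.Frame (rs ro pull IsFrame rs_rs rs_smul rs_self ro_ro ro_self pull_rs pull_smul)

variable {X Y : Scheme.{u}}

/-- An affine open with a domain of functions around a point, with its generic point. -/
theorem exists_domain_nhd [IsLocallyNoetherian Y] (hY : Pi1.IsNormalScheme Y) (y : Y) {O : Y.Opens} (hy : y ∈ O) :
    ∃ (U : Y.Opens) (hU : IsAffineOpen U) (η : Y) (hη : η ∈ U), y ∈ U ∧ U ≤ O ∧ IsDomain Γ(Y, U) ∧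
      (hU.primeIdealOf ⟨η, hη⟩).asIdeal = ⊥ ∧ (∀ z : Y, z ⤳ η → z = η) ∧ ∀ z ∈ U, η ⤳ z := by
  haveI := (hY y).1
  obtain ⟨V, hyV, -, hV⟩ := Groth.L07.RatSection.exists_integral_nhd y
  obtain ⟨U, hU, hyU, hle⟩ := exists_isAffineOpen_mem_and_subset (x := y) (U := V ⊓ O) ⟨hyV, hy⟩
  haveI := hV
  haveI : Nonempty (U : Scheme.{u}) := ⟨⟨y, hyU⟩⟩
  haveI : IsIntegral (U : Scheme.{u}) :=
    isIntegral_of_isOpenImmersion (Y.homOfLE (fun z hz => (hle hz).1 : U ≤ V))
  haveI : IsDomain Γ(Y, U) := U.topIso.commRingCatIsoToRingEquiv.symm.toMulEquiv.isDomain _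
  let b : Spec Γ(Y, U) := ⟨⊥, Ideal.isPrime_bot⟩
  have hb := primeIdealOf_fromSpec hU b (fromSpec_mem hU b)
  have hmax : ∀ z ∈ U, hU.fromSpec b ⤳ z := fun z hz => by
    have h1 : b ⤳ hU.primeIdealOf ⟨z, hz⟩ := (PrimeSpectrum.le_iff_specializes _ _).1 bot_le
    have h2 := h1.map hU.fromSpec.continuous
    rwa [hU.fromSpec_primeIdealOf] at h2
  refine ⟨U, hU, hU.fromSpec b, fromSpec_mem hU b, hyU, fun z hz => (hle hz).2, inferInstance,
    congrArg PrimeSpectrum.asIdeal hb, fun z hz => ?_, hmax⟩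
  exact (hz.antisymm (hmax z (hz.mem_open U.2 (fromSpec_mem hU b)))).eq

/-- The image of `1` under an isomorphism with the structure sheaf is a frame. -/
theorem exists_frame_top {M : X.Modules} (φ : M ≅ Coh.structureModule X) :
    ∃ σ : Γ(M, ⊤), IsFrame M ⊤ σ := by
  refine ⟨φ.inv.app ⊤ (show Γ(X, ⊤) from 1), fun V h => ?_⟩
  have key : (fun a : Γ(X, V) => a • rs M h (φ.inv.app ⊤ (show Γ(X, ⊤) from 1))) = fun a => φ.inv.app V a := by
    funext a
    have h1 : rs M h (φ.inv.app ⊤ (show Γ(X, ⊤) from 1)) = φ.inv.app V (show Γ(X, V) from 1) :=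
      (congr($(φ.inv.mapPresheaf.naturality (homOfLE h).op) (show Γ(X, ⊤) from 1))).symm.trans
        (congrArg (φ.inv.app V) (map_one (X.presheaf.map (homOfLE h).op).hom))
    rw [h1, ← φ.inv.app_smul]
    exact congrArg (φ.inv.app V) (mul_one a)
  rw [key]
  exact ConcreteCategory.bijective_of_isIso (φ.inv.app V)

/-- Functions on an open of the base inject into its preimage under a flat surjection. -/
theorem app_injective (f : X ⟶ Y) [Flat f] [Surjective f] (V : Y.Opens) : Function.Injective (f.app V) := by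
  refine (injective_iff_map_eq_zero _).2 fun a ha => ?_
  refine TopCat.Presheaf.section_ext (⟨Y.presheaf, Y.IsSheaf⟩ : TopCat.Sheaf CommRingCat Y.toTopCat) V a 0
    fun y hy => ?_
  obtain ⟨x, rfl⟩ := f.surjective y
  letI := (f.stalkMap x).hom.toAlgebra
  haveI : IsLocalHom (algebraMap (Y.presheaf.stalk (f x)) (X.presheaf.stalk x)) :=
    inferInstanceAs (IsLocalHom (f.stalkMap x).hom)
  haveI : Module.Flat (Y.presheaf.stalk (f x)) (X.presheaf.stalk x) := Flat.stalkMap f x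
  haveI : Module.FaithfullyFlat (Y.presheaf.stalk (f x)) (X.presheaf.stalk x) :=
    Module.FaithfullyFlat.of_flat_of_isLocalHom
  show Y.presheaf.germ V (f x) hy a = Y.presheaf.germ V (f x) hy 0
  refine FaithfulSMul.algebraMap_injective (Y.presheaf.stalk (f x)) (X.presheaf.stalk x) ?_
  show f.stalkMap x (Y.presheaf.germ V (f x) hy a) = f.stalkMap x (Y.presheaf.germ V (f x) hy 0)
  rw [Scheme.Hom.germ_stalkMap_apply, ha, map_zero, map_zero, map_zero]

variable (f : X ⟶ Y) [Flat f] [Surjective f] [IsLocallyNoetherian Y] (L : X.Modules)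
  (σ : ∀ η : Y, (∀ z : Y, z ⤳ η → z = η) → Γ((Scheme.Modules.pullback (f.fiberι η)).obj L, ⊤))

/-- A chart: a frame over the preimage of an open proportional to the trivialisation on the generic
fibre. -/
structure Chart where
  U : Y.Opens
  hU : IsAffineOpen U
  η : Y
  hη : η ∈ U
  dom : IsDomain Γ(Y, U)
  bot : (hU.primeIdealOf ⟨η, hη⟩).asIdeal = ⊥
  max : ∀ z : Y, z ⤳ η → z = η
  gen : ∀ z ∈ U, η ⤳ z
  V : Y.Opens
  le : V ≤ U
  p : Γ(Y, U)
  q : Γ(Y, U)
  hp : p ≠ 0
  hq : q ≠ 0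
  e : Γ(L, f ⁻¹ᵁ V)
  frame : IsFrame L (f ⁻¹ᵁ V) e
  rel : cst f η (f.preimage_mono le) p • pull (f.fiberι η) L (f ⁻¹ᵁ V) e =
    cst f η (f.preimage_mono le) q • rs _ (le_top : f.fiberι η ⁻¹ᵁ (f ⁻¹ᵁ V) ≤ ⊤) (σ η max)

variable {f L σ}

/-- Transition functions descend near each point. -/
theorem exists_local_trans (hY : Pi1.IsNormalScheme Y) (hσ : ∀ η h, IsFrame _ ⊤ (σ η h)) (a b : Chart f L σ)
    {y : Y} (hy : y ∈ a.V ⊓ b.V) :
    ∃ (V : Y.Opens) (hV : V ≤ a.V ⊓ b.V) (g : Γ(Y, V)), y ∈ V ∧ IsUnit g ∧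
      rs L (f.preimage_mono (hV.trans inf_le_right)) b.e =
        f.app V g • rs L (f.preimage_mono (hV.trans inf_le_left)) a.e := by
  obtain ⟨U, hU, η, hη, hyU, hle, hdom, hbot, hmax, hgen⟩ := exists_domain_nhd hY y hy
  have ha : U ≤ a.U := fun z hz => a.le (hle hz).1
  have hb : U ≤ b.U := fun z hz => b.le (hle hz).2
  have ea : η = a.η := (hmax a.η (a.gen η (ha hη))).symm
  have eb : η = b.η := (hmax b.η (b.gen η (hb hη))).symm
  obtain ⟨aU, ahU, aη, ahη, adom, abot, amax, agen, aV, ale, ap, aq, ahp, ahq, ae, aframe, arel⟩ := a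
  obtain ⟨bU, bhU, bη, bhη, bdom, bbot, bmax, bgen, bV, ble, bp, bq, bhp, bhq, be, bframe, brel⟩ := b
  dsimp only at ha hb ea eb hle ⊢
  subst ea eb
  haveI := hdom
  have hres : ∀ {U' : Y.Opens} (hU' : IsAffineOpen U') (hη' : η ∈ U') [IsDomain Γ(Y, U')],
      (hU'.primeIdealOf ⟨η, hη'⟩).asIdeal = ⊥ → ∀ (h : U ≤ U') {c : Γ(Y, U')}, c ≠ 0 → ro h c ≠ 0 := by
    intro U' hU' hη' _ hbot' h c hc h0
    have h1 : η ∈ Y.basicOpen c := by
      have h2 : hU'.primeIdealOf ⟨η, hη'⟩ ∈ PrimeSpectrum.basicOpen c :=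
        fun hh => hc (by simpa using hbot'.le hh)
      rw [← hU'.fromSpec_preimage_basicOpen] at h2
      have h3 : hU'.fromSpec (hU'.primeIdealOf ⟨η, hη'⟩) ∈ Y.basicOpen c := h2
      rwa [hU'.fromSpec_primeIdealOf] at h3
    have h4 : η ∈ Y.basicOpen (ro h c) := by rw [ro, Scheme.basicOpen_res]; exact ⟨hη, h1⟩
    rw [h0, Scheme.basicOpen_zero] at h4
    exact h4
  haveI := adom
  haveI := bdom
  have hap : ro ha ap ≠ 0 := hres ahU ahη abot ha ahp
  have haq : ro ha aq ≠ 0 := hres ahU ahη abot ha ahq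
  have hbp : ro hb bp ≠ 0 := hres bhU bhη bbot hb bhp
  have hbq : ro hb bq ≠ 0 := hres bhU bhη bbot hb bhq
  let W : X.Opens := f ⁻¹ᵁ U
  have hWa : W ≤ f ⁻¹ᵁ aV := f.preimage_mono (hle.trans inf_le_left)
  have hWb : W ≤ f ⁻¹ᵁ bV := f.preimage_mono (hle.trans inf_le_right)
  have hcst : ∀ {U' : Y.Opens} (h : U ≤ U') (c : Γ(Y, U')),
      cst f η (le_refl W) (ro h c) = cst f η (f.preimage_mono h) c := fun h c => by
    rw [cst, cst]
    congr 1
    exact congr($(Scheme.Hom.map_appLE f (le_refl W) (homOfLE h).op) c)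
  have harel : Good f L η (σ η amax) U (ro ha ap) (ro ha aq) W := by
    refine ⟨le_rfl, rs L hWa ae, aframe.mono hWa, ?_⟩
    rw [hcst, hcst]
    exact rel_mono (f.preimage_mono ale) hWa arel
  have hbrel : Good f L η (σ η amax) U (ro hb bp) (ro hb bq) W := by
    refine ⟨le_rfl, rs L hWb be, bframe.mono hWb, ?_⟩
    rw [hcst, hcst]
    exact rel_mono (f.preimage_mono ble) hWb brel
  obtain ⟨x, rfl⟩ := f.surjective y
  obtain ⟨v, hv⟩ := associated_stalk hU hη hbot hY (hσ η amax) harel hbrel (x := x) hyU hyU rfl hyU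
  obtain ⟨V₁, hyV₁, c, hc⟩ := Y.presheaf.exists_germ_eq (v : Y.presheaf.stalk (f x))
  have hcu : f x ∈ Y.basicOpen c := (Y.mem_basicOpen c (f x) hyV₁).2 (by rw [hc]; exact v.isUnit)
  let V₂ : Y.Opens := U ⊓ Y.basicOpen c
  have e1 : Y.presheaf.germ V₂ (f x) ⟨hyU, hcu⟩
      (ro (inf_le_left : V₂ ≤ U) (ro hb bq * ro ha ap) * ro (inf_le_right.trans (Y.basicOpen_le c)) c) =
      Y.presheaf.germ V₂ (f x) ⟨hyU, hcu⟩ (ro inf_le_left (ro ha aq * ro hb bp)) := by
    rw [map_mul, TopCat.Presheaf.germ_res_apply, TopCat.Presheaf.germ_res_apply, TopCat.Presheaf.germ_res_apply, hc]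
    exact hv
  obtain ⟨V, hyV, i₁, i₂, e2⟩ :=
    TopCat.Presheaf.germ_eq Y.presheaf (U := V₂) (V := V₂) (f x) ⟨hyU, hcu⟩ ⟨hyU, hcu⟩ _ _ e1
  have hVU : V ≤ U := i₁.le.trans inf_le_left
  have hVb : V ≤ Y.basicOpen c := i₁.le.trans inf_le_right
  have hVab : V ≤ aV ⊓ bV := hVU.trans hle
  let g : Γ(Y, V) := ro hVb (ro (Y.basicOpen_le c) c)
  have hg : IsUnit g := (RingedSpace.isUnit_res_basicOpen Y.toRingedSpace c).map (Y.presheaf.map (homOfLE hVb).op).hom
  obtain ⟨g', hgg'⟩ := hg.exists_right_inv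
  have e3 : ro hVU (ro hb bq * ro ha ap) * g = ro hVU (ro ha aq * ro hb bp) := by
    have e2' : ro i₁.le (ro (inf_le_left : V₂ ≤ U) (ro hb bq * ro ha ap) * ro (inf_le_right.trans (Y.basicOpen_le c)) c) =
        ro i₁.le (ro inf_le_left (ro ha aq * ro hb bp)) := e2
    rw [Groth.L18.Frame.ro_mul, ro_ro, ro_ro, ro_ro] at e2'
    rw [show g = ro (hVb.trans (Y.basicOpen_le c)) c from ro_ro _ _ _]
    exact e2'
  refine ⟨V, hVab, g', hyV, IsUnit.of_mul_eq_one _ (by rw [mul_comm]; exact hgg'), ?_⟩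
  -- both sides satisfy the relation of the first chart
  have hb' : f.app V g • rs L (f.preimage_mono (hVab.trans inf_le_right)) be =
      rs L (f.preimage_mono (hVab.trans inf_le_left)) ae := by
    have hbf : IsFrame L (f ⁻¹ᵁ V) (f.app V g • rs L (f.preimage_mono (hVab.trans inf_le_right)) be) :=
      (bframe.mono _).smul_unit (hg.map (f.app V).hom)
    have hVU' : f ⁻¹ᵁ V ≤ f ⁻¹ᵁ U := f.preimage_mono hVU
    have hra : cst f η hVU' (ro ha ap) • pull (f.fiberι η) L _ (rs L (f.preimage_mono (hVab.trans inf_le_left)) ae) =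
        cst f η hVU' (ro ha aq) • rs _ le_top (σ η amax) := by
      have h1 := rel_mono (f.preimage_mono ale) (f.preimage_mono (hVab.trans inf_le_left)) arel
      have h2 : ∀ c : Γ(Y, aU), cst f η hVU' (ro ha c) = cst f η (hVU'.trans (f.preimage_mono ha)) c := fun c => by
        rw [cst, cst]; congr 1
        exact congr($(Scheme.Hom.map_appLE f hVU' (homOfLE ha).op) c)
      rw [h2, h2]; exact h1
    have hrb : cst f η hVU' (ro hb bp) • pull (f.fiberι η) L _ (rs L (f.preimage_mono (hVab.trans inf_le_right)) be) =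
        cst f η hVU' (ro hb bq) • rs _ le_top (σ η amax) := by
      have h1 := rel_mono (f.preimage_mono ble) (f.preimage_mono (hVab.trans inf_le_right)) brel
      have h2 : ∀ c : Γ(Y, bU), cst f η hVU' (ro hb c) = cst f η (hVU'.trans (f.preimage_mono hb)) c := fun c => by
        rw [cst, cst]; congr 1
        exact congr($(Scheme.Hom.map_appLE f hVU' (homOfLE hb).op) c)
      rw [h2, h2]; exact h1
    refine frame_unique hU hη hbot hap hVU' hbf ?_ hra
    refine (isUnit_cst f hU hη hbot hVU' hbq).smul_left_cancel.1 ?_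
    rw [pull_smul, smul_smul, smul_smul, smul_smul (cst f η hVU' (ro hb bq)) (cst f η hVU' (ro ha aq)),
      mul_comm (cst f η hVU' (ro hb bq)) (cst f η hVU' (ro ha aq)),
      ← smul_smul (cst f η hVU' (ro ha aq)) (cst f η hVU' (ro hb bq)), ← hrb, smul_smul]
    congr 1
    refine ((map_mul ((f.fiberι η).app (f ⁻¹ᵁ V)).hom _ _).trans
      (congrArg (· * _) (map_mul ((f.fiberι η).app (f ⁻¹ᵁ V)).hom _ _))).symm.trans
      ((congrArg ((f.fiberι η).app (f ⁻¹ᵁ V)) ?_).trans (map_mul ((f.fiberι η).app (f ⁻¹ᵁ V)).hom _ _))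
    have hV : ∀ c : Γ(Y, U), f.appLE U (f ⁻¹ᵁ V) hVU' c = f.app V (ro hVU c) := fun c => by
      rw [← Scheme.Hom.appLE_eq_app]
      exact congr($((Scheme.Hom.map_appLE f (le_refl (f ⁻¹ᵁ V)) (homOfLE hVU).op).symm) c)
    have h4 := congrArg (f.app V) e3
    rw [map_mul] at h4
    refine Eq.trans ?_ (h4.trans ((hV _).symm.trans (map_mul _ _ _)))
    exact congrArg (· * f.app V g) ((map_mul _ _ _).symm.trans (hV _))
  rw [← hb', smul_smul, ← map_mul, mul_comm, hgg', map_one, one_smul]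

/-- Transition functions descend. -/
theorem exists_trans (hY : Pi1.IsNormalScheme Y) (hσ : ∀ η h, IsFrame _ ⊤ (σ η h)) (a b : Chart f L σ) :
    ∃ g : Γ(Y, a.V ⊓ b.V), rs L (f.preimage_mono inf_le_right) b.e =
      f.app (a.V ⊓ b.V) g • rs L (f.preimage_mono inf_le_left) a.e := by
  choose V hV g hyV _ he using fun y : (a.V ⊓ b.V : Y.Opens) => exists_local_trans hY hσ a b y.2
  obtain ⟨G, hG⟩ := Groth.L21.Extend.exists_glue (Coh.structureModule Y) V (a.V ⊓ b.V) hV
    (fun y hy => ⟨⟨y, hy⟩, hyV ⟨y, hy⟩⟩) g fun i j => by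
      refine app_injective f (V i ⊓ V j) ?_
      refine ((a.frame.mono (f.preimage_mono ((inf_le_left.trans (hV i)).trans inf_le_left :
        V i ⊓ V j ≤ a.V))).inj le_rfl ?_)
      have h1 := congrArg (rs L (f.preimage_mono (inf_le_left : V i ⊓ V j ≤ V i))) (he i)
      have h2 := congrArg (rs L (f.preimage_mono (inf_le_right : V i ⊓ V j ≤ V j))) (he j)
      rw [rs_smul, rs_rs, rs_rs] at h1 h2
      have hn : ∀ (W W' : Y.Opens) (h : W' ≤ W) (c : Γ(Y, W)),
          f.app W' (ro h c) = ro (f.preimage_mono h) (f.app W c) := fun W W' h c =>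
        congr($(Scheme.Hom.naturality f (homOfLE h).op) c)
      rw [rs_self]
      show f.app _ (ro inf_le_left (g i)) • _ = f.app _ (ro inf_le_right (g j)) • _
      rw [hn, hn, ← h1, ← h2]
  refine ⟨G, ?_⟩
  refine Groth.L21.Extend.eq_of_locally L _ _ fun x hx => ?_
  refine ⟨f ⁻¹ᵁ V ⟨f x, hx⟩, f.preimage_mono (hV _), hyV ⟨f x, hx⟩, ?_⟩
  show rs L _ _ = rs L _ _
  rw [rs_smul, rs_rs, rs_rs, he ⟨f x, hx⟩]
  congr 1
  rw [← show ro (hV ⟨f x, hx⟩) G = g ⟨f x, hx⟩ from hG _]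
  exact congr($(Scheme.Hom.naturality f (homOfLE (hV ⟨f x, hx⟩)).op) G)

variable (f)

/-- Descent of invertible modules trivial on the maximal fibres. -/
theorem exists_descent [IsLocallyNoetherian X] (hf : QuasiCompact f ∨ IsOpenMap f) (hY : Pi1.IsNormalScheme Y)
    (hfib : ∀ y : Y, ringKrullDim (Y.presheaf.stalk y) = 1 → IsIntegral (f.fiber y))
    (L : X.Modules) (hL : PicF.IsInvertible L)
    (htriv : ∀ η : Y, (∀ z : Y, z ⤳ η → z = η) →
      Nonempty ((Scheme.Modules.pullback (f.fiberι η)).obj L ≅ Coh.structureModule (f.fiber η))) :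
    ∃ M : Y.Modules, PicF.IsInvertible M ∧ Nonempty ((Scheme.Modules.pullback f).obj M ≅ L) := by
  choose σ hσ using fun η h => exists_frame_top (htriv η h).some
  have hch : ∀ y : Y, ∃ a : Chart f L σ, y ∈ a.V := by
    intro y
    obtain ⟨U, hU, η, hη, hyU, -, hdom, hbot, hmax, hgen⟩ := exists_domain_nhd hY y (O := ⊤) trivial
    haveI := hdom
    obtain ⟨V, p, q, hyV, hVU, hp, hq, _, e, he, hrel⟩ :=
      exists_chart hU hη hbot hf hY hfib hL (hσ η hmax) hyU
    exact ⟨⟨U, hU, η, hη, hdom, hbot, hmax, hgen, V, hVU, p, q, hp, hq, e, he, hrel⟩, hyV⟩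
  choose a ha using hch
  choose g hg using fun i j : Y => exists_trans hY hσ (a i) (a j)
  have hfg : ∀ (i j : Y) (W : Y.Opens) (h : W ≤ (a i).V ⊓ (a j).V),
      rs L (f.preimage_mono (h.trans inf_le_right)) (a j).e =
        f.app W (ro h (g i j)) • rs L (f.preimage_mono (h.trans inf_le_left)) (a i).e := by
    intro i j W h
    have := congrArg (rs L (f.preimage_mono h)) (hg i j)
    rw [rs_smul, rs_rs, rs_rs] at this
    rw [this]; congr 1
    exact (congr($(Scheme.Hom.naturality f (homOfLE h).op) (g i j))).symm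
  have hinj : ∀ (i : Y) (W : Y.Opens) (h : W ≤ (a i).V) (c c' : Γ(Y, W)),
      f.app W c • rs L (f.preimage_mono h) (a i).e = f.app W c' • rs L (f.preimage_mono h) (a i).e → c = c' :=
    fun i W h c c' hc => app_injective f W (((a i).frame).inj (f.preimage_mono h) hc)
  let C : Groth.L22.PicGlue.Cocycle Y :=
    { ι := Y
      N := fun i => (a i).V
      g := g
      one := fun i => hinj i _ inf_le_left _ _ (by
        rw [map_one, one_smul]; exact (hg i i).symm)
      comp := fun i j k => hinj i _ (inf_le_left.trans inf_le_left) _ _ (by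
        have h1 := hfg i j ((a i).V ⊓ (a j).V ⊓ (a k).V) inf_le_left
        have h2 := hfg j k ((a i).V ⊓ (a j).V ⊓ (a k).V) (inf_le_inf_right _ inf_le_right)
        have h3 := hfg i k ((a i).V ⊓ (a j).V ⊓ (a k).V) (inf_le_inf_right _ inf_le_left)
        rw [h1] at h2
        rw [map_mul, mul_comm, mul_smul]
        exact h2.symm.trans h3) }
  refine ⟨Groth.L22.PicGlue.glueMod C, Groth.L22.PicGlue.isInvertible_glueMod C (fun y => ⟨y, ha y⟩), ?_⟩
  let e' : ∀ i : Y, Γ((Scheme.Modules.pullback f).obj (Groth.L22.PicGlue.glueMod C), f ⁻¹ᵁ (a i).V) :=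
    fun i => pull f _ _ (Groth.L22.PicGlue.gen C i)
  have he' : ∀ i, IsFrame _ (f ⁻¹ᵁ (a i).V) (e' i) := fun i =>
    IsFrame.pullback f _ (fun V h => Groth.L22.PicGlue.isGen_gen C i V h)
  refine Groth.L22.PicGlue.nonempty_iso_of_gens (fun i : Y => f ⁻¹ᵁ (a i).V) (e := e') (e' := fun i => (a i).e)
    (fun i V h => he' i V h) (fun i V h => (a i).frame V h) (fun x => ⟨f x, ha (f x)⟩) ?_
  intro i j W hi hj c hc
  have hW : W ≤ f ⁻¹ᵁ ((a i).V ⊓ (a j).V) := le_inf hi hj
  have key : rs ((Scheme.Modules.pullback f).obj (Groth.L22.PicGlue.glueMod C)) hj (e' j) =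
      ro hW (f.app _ (g i j)) • rs _ hi (e' i) := by
    have h1 : rs (Groth.L22.PicGlue.glueMod C) (inf_le_right : (a i).V ⊓ (a j).V ≤ (a j).V) (Groth.L22.PicGlue.gen C j) =
        g i j • rs (Groth.L22.PicGlue.glueMod C) inf_le_left (Groth.L22.PicGlue.gen C i) :=
      Groth.L22.PicGlue.gen_trans C i j
    have h2 := congrArg (fun s => rs ((Scheme.Modules.pullback f).obj (Groth.L22.PicGlue.glueMod C)) hW
      (pull f _ ((a i).V ⊓ (a j).V) s)) h1
    simp only [pull_smul, rs_smul, ← pull_rs, rs_rs] at h2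
    exact h2
  have hcu : c = ro hW (f.app _ (g i j)) := (he' i).inj hi (hc.trans key)
  rw [hcu]
  have h3 := congrArg (rs L hW) (hg i j)
  rw [rs_smul, rs_rs, rs_rs] at h3
  exact h3.symm

end Groth.L20.SeeNormal
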