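import Groth.Agent.L20.SeeNormal.IdealDesc
import Groth.Agent.L20.SeeNormal.Main
import Groth.Agent.L18.FiberStalk
import Groth.Agent.L06.NormalAscent

/-!
# Equations of divisors over codimension one points of a normal base
-/

set_option autoImplicit false
set_option linter.style.haveILetI false
set_option linter.unusedSectionVars false
set_option backward.isDefEq.respectTransparency false
set_option backward.isDefEq.respectTransparency.types false
universe u

open CategoryTheory AlgebraicGeometry TopologicalSpace IsLocalRing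

noncomputable section

namespace Groth.L20.SeeNormal

variable {X Y : Scheme.{u}} {f : X ⟶ Y} {J : X.IdealSheafData}

/-- A zero dimensional Noetherian local ring has associated maximal ideal. -/
theorem isAssociatedPrime_maximal_of_dim_zero {A : Type u} [CommRing A] [IsLocalRing A] [IsNoetherianRing A]
    (h : ringKrullDim A = 0) : IsAssociatedPrime (maximalIdeal A) A := by
  refine (Groth.L01.FibreEmb.mem_associatedPrimes_self_iff _).2
    (Groth.L01.FibreEmb.minimalPrimes_subset_associatedPrimes_quotient ⊥ ?_)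
  have h1 : (maximalIdeal A).height = 0 := by
    have := IsLocalRing.maximalIdeal_height_eq_ringKrullDim (R := A)
    rw [h] at this
    exact_mod_cast this
  exact Ideal.height_eq_zero_iff.1 h1

/-- A fibre without embedded associated points: an associated point is maximal. -/
theorem fibre_maximal_of_assoc [IsLocallyNoetherian X] {y : Y}
    (hemb : ∀ z z' : ↥(f.fiber y),
      IsAssociatedPrime (maximalIdeal ((f.fiber y).presheaf.stalk z)) ((f.fiber y).presheaf.stalk z) →
      IsAssociatedPrime (maximalIdeal ((f.fiber y).presheaf.stalk z')) ((f.fiber y).presheaf.stalk z') →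
      z' ⤳ z → z' = z)
    (v : ↥(f.fiber y))
    (hv : IsAssociatedPrime (maximalIdeal ((f.fiber y).presheaf.stalk v)) ((f.fiber y).presheaf.stalk v))
    {x : X} (hx : f x = y) (hsp : x ⤳ f.fiberι y v) : x = f.fiberι y v := by
  obtain ⟨w, rfl⟩ : x ∈ Set.range (f.fiberι y) := by rw [f.range_fiberι]; exact hx
  have hwv : w ⤳ v := (f.fiberι y).isEmbedding.isInducing.specializes_iff.1 hsp
  obtain ⟨V, hV, hwV, -⟩ := exists_isAffineOpen_mem_and_subset (x := w) (U := (⊤ : (f.fiber y).Opens)) trivial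
  obtain ⟨P, hP, hPle⟩ := Ideal.exists_minimalPrimes_le (bot_le : ⊥ ≤ (hV.primeIdealOf ⟨w, hwV⟩).asIdeal)
  haveI := hP.1.1
  obtain ⟨w', hw'V, hw'w, -, hdim⟩ := exists_generization hV hwV P hPle
  haveI : IsNoetherianRing ((f.fiber y).presheaf.stalk w') :=
    isNoetherianRing_of_surjective (X.presheaf.stalk (f.fiberι y w')) _
      ((f.fiberι y).stalkMap w').hom (Groth.L18.stalkMap_fiberι f y w').1
  have h0 : ringKrullDim ((f.fiber y).presheaf.stalk w') = 0 := by
    rw [hdim, Ideal.height_eq_zero_iff.2 hP]; rfl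
  have hw'v : w' = v := hemb v w' hv (isAssociatedPrime_maximal_of_dim_zero h0) (hw'w.trans hwv)
  subst hw'v
  exact (((hwv.antisymm hw'w).eq).symm) ▸ rfl

variable [Flat f] [IsLocallyNoetherian X] [IsLocallyNoetherian Y]

/-- An equation from the base holds at a point if it does at its generizations of depth at most one. -/
theorem goodI_of_bad (hJ : BlowUp.IsEffCartierIdeal J) {U : Y.Opens} (hU : IsAffineOpen U) [IsDomain Γ(Y, U)]
    {c : Γ(Y, U)} (hc : c ≠ 0) {x : X} (hxU : f x ∈ U)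
    (h : ∀ z : X, z ⤳ x → Groth.L01.Serre.Bad (X.presheaf.stalk z) → GoodI f J U c z) : GoodI f J U c x := by
  obtain ⟨W₀, a₀, hxW₀, ha₀, hW₀⟩ := exists_sI_eq_span hJ x
  obtain ⟨W, hW, hxW, hle⟩ := exists_isAffineOpen_mem_and_subset (x := x) (U := W₀.1 ⊓ f ⁻¹ᵁ U) ⟨hxW₀, hxU⟩
  have hWU : W ≤ f ⁻¹ᵁ U := fun z hz => (hle hz).2
  have hWW : W ≤ W₀.1 := fun z hz => (hle hz).1
  haveI : IsNoetherianRing Γ(X, W) := IsLocallyNoetherian.component_noetherian ⟨W, hW⟩
  let a := X.presheaf.map (homOfLE hWW).op a₀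
  have ha : a ∈ nonZeroDivisors Γ(X, W) :=
    Groth.L22.Ideals.map_mem_nonZeroDivisors (U := W₀) (V := ⟨W, hW⟩) hWW ha₀
  let b := f.appLE U W hWU c
  have hb : b ∈ nonZeroDivisors Γ(X, W) := by
    letI := (f.appLE U W hWU).hom.toAlgebra
    haveI : Module.Flat Γ(Y, U) Γ(X, W) := f.flat_appLE hU hW hWU
    haveI : Module.IsTorsionFree Γ(Y, U) Γ(X, W) := inferInstance
    rw [mem_nonZeroDivisors_iff_right]
    intro v hv
    exact (smul_eq_zero.1 (show c • v = 0 by rw [Algebra.smul_def, mul_comm]; exact hv)).resolve_left hc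
  have hsI : ∀ (z : X) (hz : z ∈ W), sI J z = Ideal.span {X.presheaf.germ W z hz a} := fun z hz => by
    rw [show X.presheaf.germ W z hz a = X.presheaf.germ W₀.1 z (hWW hz) a₀ from TopCat.Presheaf.germ_res_apply _ _ _ _ _]
    exact (hW₀ z (hWW hz)).1
  have key : ∀ a₁ a₂ : Γ(X, W), a₁ ∈ nonZeroDivisors Γ(X, W) →
      (∀ (z : X) (hz : z ∈ W), z ⤳ x → Groth.L01.Serre.Bad (X.presheaf.stalk z) →
        X.presheaf.germ W z hz a₂ ∈ Ideal.span {X.presheaf.germ W z hz a₁}) →
      X.presheaf.germ W x hxW a₂ ∈ Ideal.span {X.presheaf.germ W x hxW a₁} := by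
    intro a₁ a₂ ha₁ hloc
    rw [germ_mem_span_iff hW hxW]
    by_contra hne
    push Not at hne
    obtain ⟨Q, e, hQ, hQM, hQK, hQe⟩ := exists_colon_prime a₁ a₂ (hW.primeIdealOf ⟨x, hxW⟩).asIdeal.primeCompl
      fun m hm h => hne m hm h
    haveI := hQ
    obtain ⟨z, hz, hzx, hzQ, -⟩ := exists_generization hW hxW Q fun t ht => by_contra fun h => hQM t h ht
    have hbad : Groth.L01.Serre.Bad (X.presheaf.stalk z) := by
      letI := X.presheaf.algebra_section_stalk ⟨z, hz⟩
      haveI : IsLocalization.AtPrime (X.presheaf.stalk z) Q := by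
        have := hW.isLocalization_stalk ⟨z, hz⟩
        simp only [hzQ] at this
        exact this
      exact bad_localization (Q := Q) (X.presheaf.stalk z) (a := a₁) (e := e)
        (fun w hw => (mem_nonZeroDivisors_iff.1
          (IsLocalization.map_nonZeroDivisors_le Q.primeCompl (X.presheaf.stalk z) ⟨a₁, ha₁, rfl⟩)).1 w hw)
        (fun t ht => ⟨1, fun h1 => hQ.ne_top ((Ideal.eq_top_iff_one Q).2 h1), by rw [one_mul]; exact (hQe t).1 ht⟩)
        (fun u hu h => hu ((hQe u).2 h))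
    have h1 := hloc z hz hzx hbad
    rw [germ_mem_span_iff hW hz] at h1
    obtain ⟨t, ht, hta⟩ := h1
    rw [hzQ] at ht
    exact ht (hQK t hta)
  have hgood : ∀ (z : X) (hz : z ∈ W), z ⤳ x → Groth.L01.Serre.Bad (X.presheaf.stalk z) →
      Ideal.span {X.presheaf.germ W z hz a} = Ideal.span {X.presheaf.germ W z hz b} := fun z hz hzx hbad => by
    obtain ⟨_, hg⟩ := h z hzx hbad
    rwa [hsI z hz, stalkMap_germ hWU hz] at hg
  refine ⟨hxU, ?_⟩
  rw [hsI x hxW, stalkMap_germ hWU hxW]
  exact le_antisymm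
    ((Ideal.span_singleton_le_iff_mem _).2
      (key b a hb fun z hz hzx hbad => (hgood z hz hzx hbad).le (Ideal.mem_span_singleton_self _)))
    ((Ideal.span_singleton_le_iff_mem _).2
      (key a b ha fun z hz hzx hbad => (hgood z hz hzx hbad).ge (Ideal.mem_span_singleton_self _)))

/-- At a point over a maximal point where the divisor is empty every nonzero function is an equation. -/
theorem sI_eq_top_of_fibre {η : Y} (h : J.comap (f.fiberι η) = ⊤) {z : X} (hz : f z = η) : sI J z = ⊤ := by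
  obtain ⟨v, rfl⟩ : z ∈ Set.range (f.fiberι η) := by rw [f.range_fiberι]; exact hz
  have h1 : sI (J.comap (f.fiberι η)) v = ⊤ := by
    obtain ⟨V, hV, hvV, -⟩ := exists_isAffineOpen_mem_and_subset (x := v) (U := (⊤ : (f.fiber η).Opens)) trivial
    rw [h, sI_eq _ ⟨V, hV⟩ hvV, Scheme.IdealSheafData.ideal_top, Pi.top_apply, Ideal.map_top]
  rw [sI_comap] at h1
  by_contra hne
  exact (maximalIdeal.isMaximal ((f.fiber η).presheaf.stalk v)).ne_top (top_le_iff.1 (h1.ge.trans
    (Ideal.map_le_iff_le_comap.2 ((IsLocalRing.le_maximalIdeal hne).trans fun t ht =>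
      map_nonunit ((f.fiberι η).stalkMap v).hom t ht))))

/-- A point of depth at most one of the source in the fibre over a point with a uniformizer is
associated in the fibre. -/
theorem assoc_fibre_of_bad {y : Y} (hy : IsDomain (Y.presheaf.stalk y)) {t : Y.presheaf.stalk y}
    (ht : maximalIdeal (Y.presheaf.stalk y) = Ideal.span {t}) (ht0 : t ≠ 0) (v : ↥(f.fiber y))
    (hbad : Groth.L01.Serre.Bad (X.presheaf.stalk (f.fiberι y v))) :
    IsAssociatedPrime (maximalIdeal ((f.fiber y).presheaf.stalk v)) ((f.fiber y).presheaf.stalk v) := by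
  have hfv : f (f.fiberι y v) = y := by
    have : f.fiberι y v ∈ f ⁻¹' {y} := by rw [← f.range_fiberι]; exact ⟨v, rfl⟩
    exact this
  obtain ⟨hsurj, hker⟩ := Groth.L18.stalkMap_fiberι f y v
  let z := f.fiberι y v
  let ι₀ := ((f.fiberι y).stalkMap v).hom
  let t' : Y.presheaf.stalk (f z) := (Y.presheaf.stalkCongr (.of_eq hfv.symm)).hom t
  let e := (Y.presheaf.stalkCongr (.of_eq hfv.symm)).commRingCatIsoToRingEquiv
  haveI : IsDomain (Y.presheaf.stalk (f z)) := e.symm.toMulEquiv.isDomain _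
  have ht0' : t' ≠ 0 := fun h => ht0 (e.injective (h.trans (map_zero e).symm))
  have hmax : maximalIdeal (Y.presheaf.stalk (f z)) = Ideal.span {t'} := by
    refine le_antisymm (fun w hw => ?_) ((Ideal.span_singleton_le_iff_mem _).2 fun hu => ?_)
    · have h1 : e.symm w ∈ maximalIdeal (Y.presheaf.stalk y) := fun hu => hw (by simpa using hu.map e)
      rw [ht] at h1
      obtain ⟨k, hk⟩ := Ideal.mem_span_singleton'.1 h1
      exact Ideal.mem_span_singleton'.2 ⟨e k, by
        have := congrArg e hk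
        rw [map_mul, e.apply_symm_apply] at this
        exact this⟩
    · have h1 : t ∈ maximalIdeal (Y.presheaf.stalk y) := ht.ge (Ideal.mem_span_singleton_self t)
      have h2 : IsUnit (e.symm t') := hu.map e.symm
      rw [show e.symm t' = t from e.symm_apply_apply t] at h2
      exact h1 h2
  let π := (f.stalkMap z).hom t'
  rw [hmax, Ideal.map_span, Set.image_singleton] at hker
  letI := (f.stalkMap z).hom.toAlgebra
  haveI : Module.Flat (Y.presheaf.stalk (f z)) (X.presheaf.stalk z) := Flat.stalkMap f z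
  haveI : Module.IsTorsionFree (Y.presheaf.stalk (f z)) (X.presheaf.stalk z) := inferInstance
  have hπ : ∀ w, π * w = 0 → w = 0 := fun w hw =>
    (smul_eq_zero.1 (show t' • w = 0 by rw [Algebra.smul_def]; exact hw)).resolve_left ht0'
  have hπm : π ∈ maximalIdeal (X.presheaf.stalk z) :=
    map_nonunit (f.stalkMap z).hom t' (hmax.ge (Ideal.mem_span_singleton_self t'))
  obtain ⟨s, a, hs, ha, hma⟩ := hbad
  obtain ⟨e', he'⟩ := Ideal.mem_span_singleton'.1 (hma π hπm)
  have he'π : e' ∉ Ideal.span {π} := fun h => by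
    obtain ⟨d, rfl⟩ := Ideal.mem_span_singleton'.1 h
    refine ha (Ideal.mem_span_singleton'.2 ⟨d, sub_eq_zero.1 (hπ _ ?_)⟩)
    linear_combination he'
  have hme : ∀ w ∈ maximalIdeal (X.presheaf.stalk z), w * e' ∈ Ideal.span {π} := fun w hw => by
    obtain ⟨d, hd⟩ := Ideal.mem_span_singleton'.1 (hma w hw)
    refine Ideal.mem_span_singleton'.2 ⟨d, sub_eq_zero.1 (hs _ ?_)⟩
    linear_combination π * hd - w * he'
  have hker' : ∀ w, ι₀ w = 0 ↔ w ∈ Ideal.span {π} := fun w => by rw [← RingHom.mem_ker, hker]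
  haveI : IsNoetherianRing ((f.fiber y).presheaf.stalk v) :=
    isNoetherianRing_of_surjective (X.presheaf.stalk z) _ ι₀ hsurj
  refine isAssociatedPrime_iff.2 ⟨(maximalIdeal.isMaximal _).isPrime, ι₀ e', ?_⟩
  ext w
  rw [Submodule.mem_colon_singleton, Submodule.mem_bot, smul_eq_mul]
  obtain ⟨w, rfl⟩ := hsurj w
  rw [← map_mul, hker']
  refine ⟨fun hw => hme w fun hu => hw (hu.map ι₀), fun h hu => ?_⟩
  exact he'π ((Ideal.unit_mul_mem_iff_mem _ (isUnit_of_map_unit ι₀ w hu)).1 h)

variable [Surjective f]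

/-- Normal base: the divisor descends at the points of depth at most one. -/
theorem descAt_of_cod1 (hY : Pi1.IsNormalScheme Y) (hJ : BlowUp.IsEffCartierIdeal J)
    (hgen : ∀ η : Y, (∀ z : Y, z ⤳ η → z = η) → J.comap (f.fiberι η) = ⊤)
    (hcod : ∀ y : Y, ringKrullDim (Y.presheaf.stalk y) = 1 →
      ∀ (U : Y.Opens) (_ : IsAffineOpen U) (_ : IsDomain Γ(Y, U)), y ∈ U → ∃ c : Γ(Y, U), c ≠ 0 ∧
        ∀ z : X, f z = y → Groth.L01.Serre.Bad (X.presheaf.stalk z) → GoodI f J U c z)
    (y : Y) (hdep : LocCoh.depth (Y.presheaf.stalk y) (Y.presheaf.stalk y) ≤ 1) : DescAt f J y := by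
  haveI := (hY y).1
  haveI := (hY y).2
  have hdim : ringKrullDim (Y.presheaf.stalk y) ≤ 1 := by
    by_contra h
    exact absurd ((Groth.L06.NormalAscent.two_le_depth_of_normal h).trans hdep) (by decide)
  obtain ⟨U, hU, η, hη, hyU, -, hdom, hbot, hmax, -⟩ := exists_domain_nhd hY y (O := (⊤ : Y.Opens)) trivial
  haveI := hdom
  letI := Y.presheaf.algebra_section_stalk ⟨y, hyU⟩
  haveI := hU.isLocalization_stalk ⟨y, hyU⟩
  have hinj : Function.Injective (algebraMap Γ(Y, U) (Y.presheaf.stalk y)) :=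
    IsLocalization.injective _ (Ideal.primeCompl_le_nonZeroDivisors (hU.primeIdealOf ⟨y, hyU⟩).asIdeal)
  have hht : (hU.primeIdealOf ⟨y, hyU⟩).asIdeal.height ≤ 1 := by
    rw [IsLocalization.AtPrime.ringKrullDim_eq_height (hU.primeIdealOf ⟨y, hyU⟩).asIdeal
      (Y.presheaf.stalk y)] at hdim
    exact_mod_cast hdim
  -- a proper generization is the generic point, where every nonzero function is an equation
  have hη' : ∀ (z : X) (hzU : f z ∈ U) (c : Γ(Y, U)), c ≠ 0 →
      (hU.primeIdealOf ⟨f z, hzU⟩).asIdeal = ⊥ → GoodI f J U c z := by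
    intro z hzU c hc hz
    have he : f z = η := by
      have h1 : hU.primeIdealOf ⟨f z, hzU⟩ = hU.primeIdealOf ⟨η, hη⟩ := PrimeSpectrum.ext (hz.trans hbot.symm)
      exact (hU.fromSpec_primeIdealOf ⟨f z, hzU⟩).symm.trans ((congrArg hU.fromSpec h1).trans (hU.fromSpec_primeIdealOf ⟨η, hη⟩))
    refine ⟨hzU, (sI_eq_top_of_fibre (hgen η hmax) he).trans (Ideal.span_singleton_eq_top.2 ?_).symm⟩
    letI := Y.presheaf.algebra_section_stalk ⟨f z, hzU⟩
    haveI := hU.isLocalization_stalk ⟨f z, hzU⟩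
    exact (IsLocalization.map_units (Y.presheaf.stalk (f z))
      (⟨c, show c ∉ _ by rw [hz]; exact hc⟩ : (hU.primeIdealOf ⟨f z, hzU⟩).asIdeal.primeCompl)).map _
  by_cases h0 : (hU.primeIdealOf ⟨y, hyU⟩).asIdeal = ⊥
  · refine ⟨U, hyU, 1, by rw [map_one]; exact one_mem _, ?_⟩
    rintro x rfl
    exact hη' x hyU 1 one_ne_zero h0
  have hh1 : (hU.primeIdealOf ⟨y, hyU⟩).asIdeal.height = 1 := by
    refine le_antisymm hht (Order.one_le_iff_ne_zero.2 fun h => h0 ?_)
    rw [Ideal.height_eq_zero_iff, IsDomain.minimalPrimes_eq_singleton_bot] at h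
    exact h
  have hd1 : ringKrullDim (Y.presheaf.stalk y) = 1 := by
    rw [IsLocalization.AtPrime.ringKrullDim_eq_height (hU.primeIdealOf ⟨y, hyU⟩).asIdeal
      (Y.presheaf.stalk y), hh1]; rfl
  obtain ⟨c, hc, hbad⟩ := hcod y hd1 U hU hdom hyU
  refine ⟨U, hyU, c, mem_nonZeroDivisors_of_ne_zero ((map_ne_zero_iff _ hinj).2 hc), ?_⟩
  rintro x rfl
  refine goodI_of_bad hJ hU hc hyU fun z hz hzbad => ?_
  have hsp : f z ⤳ f x := hz.map f.continuous
  have hzU : f z ∈ U := hsp.mem_open U.2 hyU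
  by_cases he : f z = f x
  · exact hbad z he hzbad
  refine hη' z hzU c hc ?_
  have h2 : hU.fromSpec (hU.primeIdealOf ⟨f z, hzU⟩) ⤳ hU.fromSpec (hU.primeIdealOf ⟨f x, hyU⟩) := by
    rwa [hU.fromSpec_primeIdealOf, hU.fromSpec_primeIdealOf]
  have hle : (hU.primeIdealOf ⟨f z, hzU⟩).asIdeal ≤ (hU.primeIdealOf ⟨f x, hyU⟩).asIdeal :=
    (PrimeSpectrum.le_iff_specializes _ _).2 (hU.fromSpec.isOpenEmbedding.isInducing.specializes_iff.1 h2)
  rcases hle.lt_or_eq with hlt | heq
  · haveI : (hU.primeIdealOf ⟨f x, hyU⟩).asIdeal.FiniteHeight := ⟨Or.inr (by rw [hh1]; exact ENat.one_ne_top)⟩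
    haveI := Ideal.finiteHeight_of_le hle (hU.primeIdealOf ⟨f x, hyU⟩).isPrime.ne_top
    have h3 := Ideal.height_strict_mono_of_isPrime hlt
    rw [hh1, Order.lt_one_iff, Ideal.height_eq_zero_iff, IsDomain.minimalPrimes_eq_singleton_bot] at h3
    exact h3
  · exfalso
    refine he ?_
    exact (hU.fromSpec_primeIdealOf ⟨f z, hzU⟩).symm.trans ((congrArg hU.fromSpec (PrimeSpectrum.ext heq)).trans
      (hU.fromSpec_primeIdealOf ⟨f x, hyU⟩))

end Groth.L20.SeeNormal
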