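import Groth.Agent.L20.SeeNormal.Alg
import Groth.Agent.L02.SchDom.FlatInj
import Groth.Agent.L16.Rees.InvNearFibre

/-!
# Functions on the affine pieces of a fibre
-/

set_option autoImplicit false
set_option linter.style.haveILetI false
universe u

open CategoryTheory CategoryTheory.Limits AlgebraicGeometry TopologicalSpace

noncomputable section

namespace Groth.L20.SeeNormal

open Groth.L18.Frame (ro)

/-- The pushout of a quotient field of `C` along `C → B`: fractions and kernel. -/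
theorem pushout_field {C B K T : CommRingCat.{u}} (g : C ⟶ B) (e : C ⟶ K) (i : B ⟶ T) (j : K ⟶ T)
    (h : IsPushout g e i j) (hK : IsField K) (p : Ideal C) [p.IsPrime] (hker : RingHom.ker e.hom = p)
    (hfrac : ∀ z : K, ∃ a s : C, s ∉ p ∧ e s * z = e a) :
    (∀ t : T, ∃ (b : B) (s : C), s ∉ p ∧ i (g s) * t = i b) ∧
    (∀ b : B, i b = 0 ↔ ∃ s ∉ p, g s * b ∈ p.map g.hom) ∧
    (∀ s ∉ p, IsUnit (i (g s))) := by
  have hw : ∀ a, i (g a) = j (e a) := fun a => congr($(h.w).hom a)
  have hunit : ∀ s ∉ p, IsUnit (i (g s)) := fun s hs => by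
    rw [hw]
    letI := hK.toField
    exact (IsUnit.mk0 _ fun h0 => hs (hker.le (RingHom.mem_ker.2 h0))).map j.hom
  refine ⟨fun t => ?_, fun b => ⟨fun hb => ?_, ?_⟩, hunit⟩
  · have hmem : t ∈ Subring.closure (Set.range i ∪ Set.range j) := by
      rw [CommRingCat.closure_range_union_range_eq_top_of_isPushout h]; trivial
    induction hmem using Subring.closure_induction with
    | mem t ht =>
      rcases ht with ⟨b, rfl⟩ | ⟨z, rfl⟩
      · exact ⟨b, 1, fun h1 => ‹p.IsPrime›.ne_top ((Ideal.eq_top_iff_one p).2 h1), by simp⟩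
      · obtain ⟨a, s, hs, hsz⟩ := hfrac z
        exact ⟨g a, s, hs, by rw [hw, ← map_mul, hsz, hw]⟩
    | zero => exact ⟨0, 1, fun h1 => ‹p.IsPrime›.ne_top ((Ideal.eq_top_iff_one p).2 h1), by simp⟩
    | one => exact ⟨1, 1, fun h1 => ‹p.IsPrime›.ne_top ((Ideal.eq_top_iff_one p).2 h1), by simp⟩
    | add x y _ _ hx hy =>
      obtain ⟨b, s, hs, hb⟩ := hx
      obtain ⟨b', s', hs', hb'⟩ := hy
      refine ⟨g s' * b + g s * b', s * s', fun hh => (Ideal.IsPrime.mem_or_mem ‹_› hh).elim hs hs', ?_⟩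
      simp only [map_mul, map_add]
      linear_combination (i (g s')) * hb + (i (g s)) * hb'
    | neg x _ hx =>
      obtain ⟨b, s, hs, hb⟩ := hx
      exact ⟨-b, s, hs, by rw [mul_neg, hb, map_neg]⟩
    | mul x y _ _ hx hy =>
      obtain ⟨b, s, hs, hb⟩ := hx
      obtain ⟨b', s', hs', hb'⟩ := hy
      refine ⟨b * b', s * s', fun hh => (Ideal.IsPrime.mem_or_mem ‹_› hh).elim hs hs', ?_⟩
      simp only [map_mul]
      linear_combination (i (g s') * y) * hb + (i b) * hb'
  · -- the localisation of `B / pB` receives a map from the pushout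
    let π := Ideal.Quotient.mk (p.map g.hom)
    let S := p.primeCompl.map (π.comp g.hom : C →+* B ⧸ p.map g.hom).toMonoidHom
    let T' := Localization S
    let μ : B →+* T' := (algebraMap (B ⧸ p.map g.hom) T').comp π
    have hp : p ≤ RingHom.ker (μ.comp g.hom) := fun c hc => by
      rw [RingHom.mem_ker]
      simp only [μ, π, RingHom.comp_apply, Ideal.Quotient.eq_zero_iff_mem.2 (Ideal.mem_map_of_mem g.hom hc), map_zero]
    have hu : p.primeCompl ≤ (IsUnit.submonoid T').comap (μ.comp g.hom) := fun c hc =>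
      IsLocalization.map_units T' (⟨_, c, hc, rfl⟩ : S)
    letI : Field K := hK.toField
    let r : p.ResidueField →+* K := Ideal.ResidueField.lift p e.hom hker.ge
      fun c hc => IsUnit.mk0 _ fun h0 => hc (hker.le (RingHom.mem_ker.2 h0))
    let r' : p.ResidueField →+* T' := Ideal.ResidueField.lift p (μ.comp g.hom) hp hu
    have hr : ∀ c, r (algebraMap C p.ResidueField c) = e c := fun c => Ideal.ResidueField.lift_algebraMap _ _ _ _ c
    have hr' : ∀ c, r' (algebraMap C p.ResidueField c) = μ (g c) := fun c => Ideal.ResidueField.lift_algebraMap _ _ _ _ c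
    have hsurj : Function.Surjective r := fun z => by
      obtain ⟨a, s, hs, hsz⟩ := hfrac z
      have hs0 : e s ≠ 0 := fun h0 => hs (hker.le (RingHom.mem_ker.2 h0))
      refine ⟨algebraMap C p.ResidueField a / algebraMap C p.ResidueField s, ?_⟩
      rw [map_div₀, hr, hr, div_eq_iff hs0, mul_comm, hsz]
    let ρ : p.ResidueField ≃+* K := RingEquiv.ofBijective r ⟨r.injective, hsurj⟩
    let μK : K →+* T' := r'.comp ρ.symm.toRingHom
    have hcomm : g ≫ CommRingCat.ofHom (R := B) μ = e ≫ CommRingCat.ofHom (R := K) μK := by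
      ext c
      show μ (g c) = r' (ρ.symm (e c))
      rw [← hr' c, ← hr c]
      exact congrArg r' (ρ.symm_apply_apply _).symm
    have hd := congr($(h.inl_desc _ _ hcomm).hom b)
    have h0 : μ b = 0 := by
      change (h.desc _ _ hcomm).hom (i b) = μ b at hd
      rw [← hd, hb, map_zero]
    obtain ⟨⟨_, s, hs, rfl⟩, hsb⟩ := (IsLocalization.map_eq_zero_iff S T' _).1 h0
    exact ⟨s, hs, Ideal.Quotient.eq_zero_iff_mem.1 (by rw [map_mul]; exact hsb)⟩
  · rintro ⟨s, hs, hsb⟩
    have hle : p.map g.hom ≤ RingHom.ker i.hom := by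
      rw [Ideal.map_le_iff_le_comap]
      intro c hc
      rw [Ideal.mem_comap, RingHom.mem_ker]
      show i (g c) = 0
      rw [hw, show e c = 0 from RingHom.mem_ker.1 (hker.ge hc), map_zero]
    have := hle hsb
    rw [RingHom.mem_ker, map_mul] at this
    exact (hunit s hs).mul_right_eq_zero.1 this

variable {X Y : Scheme.{u}} (f : X ⟶ Y)

/-- Functions on the trace of an affine open on a fibre. -/
theorem fibre_ring {U : Y.Opens} (hU : IsAffineOpen U) {W : X.Opens} (hW : IsAffineOpen W)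
    (hWU : W ≤ f ⁻¹ᵁ U) {y : Y} (hy : y ∈ U) :
    (∀ t : Γ(f.fiber y, f.fiberι y ⁻¹ᵁ W), ∃ (b : Γ(X, W)) (s : Γ(Y, U)),
      s ∉ (hU.primeIdealOf ⟨y, hy⟩).asIdeal ∧
      (f.fiberι y).app W (f.appLE U W hWU s) * t = (f.fiberι y).app W b) ∧
    (∀ b : Γ(X, W), (f.fiberι y).app W b = 0 ↔
      ∃ s ∉ (hU.primeIdealOf ⟨y, hy⟩).asIdeal, f.appLE U W hWU s * b ∈
        (hU.primeIdealOf ⟨y, hy⟩).asIdeal.map (f.appLE U W hWU).hom) ∧
    (∀ s ∉ (hU.primeIdealOf ⟨y, hy⟩).asIdeal, IsUnit ((f.fiberι y).app W (f.appLE U W hWU s))) := by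
  have hc : IsPullback (f.fiberι y) (f.fiberToSpecResidueField y) f (Y.fromSpecResidueField y) :=
    IsPullback.of_hasPullback _ _
  have eW : (⊤ : (Spec (Y.residueField y)).Opens) ≤ Y.fromSpecResidueField y ⁻¹ᵁ U := fun z _ => by
    show Y.fromSpecResidueField y z ∈ U
    rw [Scheme.fromSpecResidueField_apply]; exact hy
  obtain ⟨-, hpush⟩ := Groth.L02.SchDom.affine_square hc hU hW (isAffineOpen_top _) hWU eW
  have happ := Groth.L16.Rees.NearFibre.fromSpecResidueField_app_top y hy eW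
  have hev : ∀ c, (Y.fromSpecResidueField y).appLE U ⊤ eW c =
      (Scheme.ΓSpecIso (Y.residueField y)).inv (Y.evaluation U y hy c) := fun c => congr($(happ) c)
  have hmem : ∀ c, c ∈ (hU.primeIdealOf ⟨y, hy⟩).asIdeal ↔ Y.evaluation U y hy c = 0 := fun c => by
    letI := Y.presheaf.algebra_section_stalk ⟨y, hy⟩
    haveI := hU.isLocalization_stalk ⟨y, hy⟩
    rw [← IsLocalization.AtPrime.to_map_mem_maximal_iff (Y.presheaf.stalk y) (hU.primeIdealOf ⟨y, hy⟩).asIdeal, ← IsLocalRing.residue_eq_zero_iff]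
    rfl
  have hK : IsField Γ(Spec (Y.residueField y), (⊤ : (Spec (Y.residueField y)).Opens)) :=
    MulEquiv.isField (Field.toIsField (Y.residueField y))
      (Scheme.ΓSpecIso (Y.residueField y)).commRingCatIsoToRingEquiv.toMulEquiv
  have hinj : Function.Injective (Scheme.ΓSpecIso (Y.residueField y)).inv :=
    (Scheme.ΓSpecIso (Y.residueField y)).commRingCatIsoToRingEquiv.symm.injective
  obtain ⟨h1, h2, h3⟩ := pushout_field _ _ _ _ hpush hK (hU.primeIdealOf ⟨y, hy⟩).asIdeal
    (by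
      ext c
      rw [RingHom.mem_ker, hmem]
      show (Y.fromSpecResidueField y).appLE U ⊤ eW c = 0 ↔ _
      rw [hev, map_eq_zero_iff _ hinj])
    (fun z => by
      obtain ⟨a, r, hr, har⟩ := Groth.L16.Rees.NearFibre.exists_frac hU y hy
        ((Scheme.ΓSpecIso (Y.residueField y)).hom z)
      refine ⟨a, r, fun hh => hr.ne_zero ((hmem r).1 hh), ?_⟩
      rw [hev, hev, ← har, map_mul]
      exact congrArg (_ * ·) (congr($((Scheme.ΓSpecIso (Y.residueField y)).hom_inv_id) z)).symm)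
  have hle : f.fiberι y ⁻¹ᵁ W ≤ f.fiberι y ⁻¹ᵁ W ⊓ f.fiberToSpecResidueField y ⁻¹ᵁ ⊤ :=
    le_inf le_rfl le_top
  let res : Γ(f.fiber y, f.fiberι y ⁻¹ᵁ W ⊓ f.fiberToSpecResidueField y ⁻¹ᵁ ⊤) ≅ Γ(f.fiber y, f.fiberι y ⁻¹ᵁ W) :=
    (f.fiber y).presheaf.mapIso (eqToIso (le_antisymm inf_le_left hle).symm).op
  have hres : ∀ b, res.hom ((f.fiberι y).appLE W _ inf_le_left b) = (f.fiberι y).app W b := fun b => by
    show ((f.fiberι y).appLE W _ inf_le_left ≫ (f.fiber y).presheaf.map _) b = _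
    rw [Scheme.Hom.appLE_map, Scheme.Hom.appLE_eq_app]
  have hri : Function.Injective res.hom := res.commRingCatIsoToRingEquiv.injective
  refine ⟨fun t => ?_, fun b => ?_, fun s hs => ?_⟩
  · obtain ⟨t', rfl⟩ := res.commRingCatIsoToRingEquiv.surjective t
    obtain ⟨b, s, hs, hb⟩ := h1 t'
    refine ⟨b, s, hs, ?_⟩
    rw [← hres, ← hres, ← hb, map_mul]
    rfl
  · rw [← h2 b, ← hres, map_eq_zero_iff _ hri]
  · rw [← hres]
    exact (h3 s hs).map res.hom.hom

end Groth.L20.SeeNormal
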