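import Groth.Agent.L20.SeeNormal.IdealPts
import Mathlib.AlgebraicGeometry.Morphisms.UniversallyOpen

/-!
# Descent of effective Cartier divisors from the points of depth at most one
-/

set_option autoImplicit false
set_option linter.style.haveILetI false
set_option linter.unusedSectionVars false
set_option backward.isDefEq.respectTransparency false
set_option backward.isDefEq.respectTransparency.types false
universe u

open CategoryTheory AlgebraicGeometry TopologicalSpace IsLocalRing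

noncomputable section

namespace Groth.L20.SeeNormal

variable {X Y : Scheme.{u}} (f : X ⟶ Y) (J : X.IdealSheafData)

/-- The divisor is cut out at a point by a function of the base. -/
def GoodI (U : Y.Opens) (c : Γ(Y, U)) (x : X) : Prop :=
  ∃ hx : f x ∈ U, sI J x = Ideal.span {f.stalkMap x (Y.presheaf.germ U (f x) hx c)}

/-- The divisor is cut out along a fibre by one regular function of the base. -/
def DescAt (y : Y) : Prop :=
  ∃ (U : Y.Opens) (hy : y ∈ U) (c : Γ(Y, U)),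
    Y.presheaf.germ U y hy c ∈ nonZeroDivisors (Y.presheaf.stalk y) ∧ ∀ x : X, f x = y → GoodI f J U c x

variable {f J}

theorem stalkMap_germ {U : Y.Opens} {W : X.Opens} (hWU : W ≤ f ⁻¹ᵁ U) {z : X} (hz : z ∈ W) (c : Γ(Y, U)) :
    f.stalkMap z (Y.presheaf.germ U (f z) (hWU hz) c) = X.presheaf.germ W z hz (f.appLE U W hWU c) := by
  rw [Scheme.Hom.germ_stalkMap_apply, Scheme.Hom.appLE, CommRingCat.comp_apply, TopCat.Presheaf.germ_res_apply]

theorem isOpen_goodI (hJ : BlowUp.IsEffCartierIdeal J) (U : Y.Opens) (c : Γ(Y, U)) :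
    IsOpen {x | GoodI f J U c x} := by
  refine isOpen_iff_forall_mem_open.2 fun x hxg => ?_
  obtain ⟨hxU, hx⟩ : ∃ hxU : f x ∈ U, sI J x = Ideal.span {f.stalkMap x (Y.presheaf.germ U (f x) hxU c)} := hxg
  obtain ⟨W, a, hxW, -, hW⟩ := exists_sI_eq_span hJ x
  let V₀ : X.Opens := W.1 ⊓ f ⁻¹ᵁ U
  have hxV : x ∈ V₀ := ⟨hxW, hxU⟩
  rw [(hW x hxW).1, stalkMap_germ (inf_le_right : V₀ ≤ f ⁻¹ᵁ U) hxV] at hx
  obtain ⟨t, ht⟩ := Ideal.mem_span_singleton'.1 (hx.le (Ideal.mem_span_singleton_self _))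
  obtain ⟨s, hs⟩ := Ideal.mem_span_singleton'.1 (hx.ge (Ideal.mem_span_singleton_self _))
  obtain ⟨V₁, hx₁, t', rfl⟩ := X.presheaf.exists_germ_eq t
  obtain ⟨V₂, hx₂, s', rfl⟩ := X.presheaf.exists_germ_eq s
  let c' := f.appLE U V₀ inf_le_right c
  let V := V₀ ⊓ V₁ ⊓ V₂
  let r : ∀ {O : X.Opens}, V ≤ O → Γ(X, O) → Γ(X, V) := fun h => X.presheaf.map (homOfLE h).op
  have hl₀ : V ≤ V₀ := inf_le_left.trans inf_le_left
  have hl₁ : V ≤ V₁ := inf_le_left.trans inf_le_right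
  have hl₂ : V ≤ V₂ := inf_le_right
  have hxV' : x ∈ V := ⟨⟨hxV, hx₁⟩, hx₂⟩
  have e1 : X.presheaf.germ V x hxV' (r hl₁ t' * r hl₀ c') = X.presheaf.germ V x hxV' (r (hl₀.trans inf_le_left : V ≤ W.1) a) := by
    rw [map_mul]; simp only [r, TopCat.Presheaf.germ_res_apply]; exact ht
  have e2 : X.presheaf.germ V x hxV' (r hl₂ s' * r (hl₀.trans inf_le_left : V ≤ W.1) a) = X.presheaf.germ V x hxV' (r hl₀ c') := by
    rw [map_mul]; simp only [r, TopCat.Presheaf.germ_res_apply]; exact hs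
  obtain ⟨N₁, hN₁, i₁, i₁', h₁⟩ := TopCat.Presheaf.germ_eq X.presheaf (U := V) (V := V) x hxV' hxV' _ _ e1
  obtain ⟨N₂, hN₂, i₂, i₂', h₂⟩ := TopCat.Presheaf.germ_eq X.presheaf (U := V) (V := V) x hxV' hxV' _ _ e2
  refine ⟨(N₁ ⊓ N₂ : X.Opens), fun z hz => ?_, (N₁ ⊓ N₂ : X.Opens).2, ⟨hN₁, hN₂⟩⟩
  have hzV : z ∈ V := i₁.le hz.1
  have g1 := congrArg (X.presheaf.germ N₁ z hz.1) h₁
  have g2 := congrArg (X.presheaf.germ N₂ z hz.2) h₂
  simp only [TopCat.Presheaf.germ_res_apply, map_mul, r] at g1 g2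
  refine ⟨(hl₀ hzV).2, ?_⟩
  rw [(hW z (hl₀ hzV).1).1, stalkMap_germ (inf_le_right : V₀ ≤ f ⁻¹ᵁ U) (hl₀ hzV)]
  exact le_antisymm ((Ideal.span_singleton_le_iff_mem _).2 (Ideal.mem_span_singleton'.2 ⟨_, g1⟩))
    ((Ideal.span_singleton_le_iff_mem _).2 (Ideal.mem_span_singleton'.2 ⟨_, g2⟩))

theorem GoodI.of_span_eq {U U' : Y.Opens} {c : Γ(Y, U)} {c' : Γ(Y, U')} {x : X} {y : Y} (hxy : f x = y)
    (h : GoodI f J U c x) (hy : y ∈ U) (hy' : y ∈ U')
    (e : Ideal.span {Y.presheaf.germ U y hy c} = Ideal.span {Y.presheaf.germ U' y hy' c'}) :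
    GoodI f J U' c' x := by
  subst hxy
  obtain ⟨_, h⟩ := h
  refine ⟨hy', h.trans ?_⟩
  simpa only [Ideal.map_span, Set.image_singleton] using congrArg (Ideal.map (f.stalkMap x).hom) e

variable [Flat f]

theorem span_eq_of_goodI {U U' : Y.Opens} {c : Γ(Y, U)} {c' : Γ(Y, U')} {x : X} {y : Y} (hxy : f x = y)
    (h : GoodI f J U c x) (h' : GoodI f J U' c' x) (hy : y ∈ U) (hy' : y ∈ U') :
    Ideal.span {Y.presheaf.germ U y hy c} = Ideal.span {Y.presheaf.germ U' y hy' c'} := by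
  subst hxy
  obtain ⟨_, h⟩ := h
  obtain ⟨_, h'⟩ := h'
  letI := (f.stalkMap x).hom.toAlgebra
  haveI : IsLocalHom (algebraMap (Y.presheaf.stalk (f x)) (X.presheaf.stalk x)) :=
    inferInstanceAs (IsLocalHom (f.stalkMap x).hom)
  haveI : Module.Flat (Y.presheaf.stalk (f x)) (X.presheaf.stalk x) := Flat.stalkMap f x
  haveI : Module.FaithfullyFlat (Y.presheaf.stalk (f x)) (X.presheaf.stalk x) :=
    Module.FaithfullyFlat.of_flat_of_isLocalHom
  rw [← Ideal.comap_map_eq_self_of_faithfullyFlat (B := X.presheaf.stalk x) (Ideal.span {_}), Ideal.map_span,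
    Set.image_singleton]
  conv_rhs => rw [← Ideal.comap_map_eq_self_of_faithfullyFlat (B := X.presheaf.stalk x) (Ideal.span {_}),
    Ideal.map_span, Set.image_singleton]
  exact congrArg (Ideal.comap (algebraMap (Y.presheaf.stalk (f x)) (X.presheaf.stalk x))) (h.symm.trans h')

theorem mem_nonZeroDivisors_of_goodI (hJ : BlowUp.IsEffCartierIdeal J) {U : Y.Opens} {c : Γ(Y, U)} {x : X}
    {y : Y} (hxy : f x = y) (h : GoodI f J U c x) (hy : y ∈ U) :
    Y.presheaf.germ U y hy c ∈ nonZeroDivisors (Y.presheaf.stalk y) := by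
  subst hxy
  obtain ⟨_, h⟩ := h
  obtain ⟨W, a, hxW, -, hW⟩ := exists_sI_eq_span hJ x
  obtain ⟨h1, h2⟩ := hW x hxW
  rw [h1] at h
  obtain ⟨w, hw⟩ := Ideal.mem_span_singleton'.1 (h.le (Ideal.mem_span_singleton_self _))
  rw [← hw] at h2
  have h3 := (mul_mem_nonZeroDivisors.1 h2).2
  letI := (f.stalkMap x).hom.toAlgebra
  haveI : IsLocalHom (algebraMap (Y.presheaf.stalk (f x)) (X.presheaf.stalk x)) :=
    inferInstanceAs (IsLocalHom (f.stalkMap x).hom)
  haveI : Module.Flat (Y.presheaf.stalk (f x)) (X.presheaf.stalk x) := Flat.stalkMap f x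
  haveI : Module.FaithfullyFlat (Y.presheaf.stalk (f x)) (X.presheaf.stalk x) :=
    Module.FaithfullyFlat.of_flat_of_isLocalHom
  rw [mem_nonZeroDivisors_iff_right]
  intro v hv
  refine FaithfulSMul.algebraMap_injective (Y.presheaf.stalk (f x)) (X.presheaf.stalk x) ?_
  rw [map_zero]
  refine (mem_nonZeroDivisors_iff_right.1 h3) _ ?_
  show algebraMap (Y.presheaf.stalk (f x)) (X.presheaf.stalk x) v * f.stalkMap x _ = 0
  exact (map_mul (f.stalkMap x).hom v _).symm.trans ((congrArg (f.stalkMap x) hv).trans (map_zero _))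

theorem GoodI.generizes (hJ : BlowUp.IsEffCartierIdeal J) {U : Y.Opens} {c : Γ(Y, U)} {x z : X}
    (h : GoodI f J U c x) (hz : z ⤳ x) : GoodI f J U c z :=
  hz.mem_open (isOpen_goodI hJ U c) h

/-- On a point where the divisor descends a nearby equation is the equation. -/
theorem goodI_of_descAt (hJ : BlowUp.IsEffCartierIdeal J) {U : Y.Opens} {c : Γ(Y, U)} {x' : X}
    (hc : GoodI f J U c x') {z : X} (hsp : f z ⤳ f x') (hd : DescAt f J (f z)) : GoodI f J U c z := by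
  obtain ⟨U', hy', c', -, hc'⟩ := hd
  obtain ⟨z₀, hz₀, hfz₀⟩ := Flat.generalizingMap f hsp
  have hy : f z ∈ U := hsp.mem_open U.2 hc.choose
  exact (hc' z rfl).of_span_eq rfl hy' hy
    (span_eq_of_goodI hfz₀ (hc' z₀ hfz₀) (hc.generizes hJ hz₀) hy' hy)

/-- A fibre equation in the functions of an affine open. -/
theorem exists_affine_eq {U : Y.Opens} (hU : IsAffineOpen U) {y : Y} (hy : y ∈ U) (hd : DescAt f J y) :
    ∃ c : Γ(Y, U), ∀ x : X, f x = y → GoodI f J U c x := by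
  obtain ⟨U', hy', c', -, hc'⟩ := hd
  letI := Y.presheaf.algebra_section_stalk ⟨y, hy⟩
  haveI := hU.isLocalization_stalk ⟨y, hy⟩
  obtain ⟨⟨c, t⟩, hct⟩ := IsLocalization.surj (hU.primeIdealOf ⟨y, hy⟩).asIdeal.primeCompl
    (Y.presheaf.germ U' y hy' c')
  refine ⟨c, fun x hx => (hc' x hx).of_span_eq hx hy' hy ?_⟩
  show Ideal.span {Y.presheaf.germ U' y hy' c'} = Ideal.span {algebraMap Γ(Y, U) (Y.presheaf.stalk y) c}
  rw [← hct, Ideal.span_singleton_mul_right_unit (IsLocalization.map_units _ t)]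

variable [Surjective f] [IsLocallyNoetherian X] [IsLocallyNoetherian Y]

set_option maxHeartbeats 1000000 in
/-- An equation from the base at a single point. -/
theorem exists_goodI (hJ : BlowUp.IsEffCartierIdeal J)
    (H : ∀ y : Y, LocCoh.depth (Y.presheaf.stalk y) (Y.presheaf.stalk y) ≤ 1 → DescAt f J y)
    {U : Y.Opens} (hU : IsAffineOpen U) (x : X) (hxU : f x ∈ U) : ∃ c : Γ(Y, U), GoodI f J U c x := by
  obtain ⟨W₀, a₀, hxW₀, -, hW₀⟩ := exists_sI_eq_span hJ x
  obtain ⟨W, hW, hxW, hle⟩ := exists_isAffineOpen_mem_and_subset (x := x) (U := W₀.1 ⊓ f ⁻¹ᵁ U) ⟨hxW₀, hxU⟩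
  have hWU : W ≤ f ⁻¹ᵁ U := fun z hz => (hle hz).2
  have hWW : W ≤ W₀.1 := fun z hz => (hle hz).1
  let a := X.presheaf.map (homOfLE hWW).op a₀
  have hsI : ∀ (z : X) (hz : z ∈ W), sI J z = Ideal.span {X.presheaf.germ W z hz a} ∧
      X.presheaf.germ W z hz a ∈ nonZeroDivisors (X.presheaf.stalk z) := fun z hz => by
    rw [show X.presheaf.germ W z hz a = X.presheaf.germ W₀.1 z (hWW hz) a₀ from TopCat.Presheaf.germ_res_apply _ _ _ _ _]
    exact hW₀ z (hWW hz)
  have ha : a ∈ nonZeroDivisors Γ(X, W) := by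
    rw [mem_nonZeroDivisors_iff_right]
    intro v hv
    refine TopCat.Presheaf.section_ext (⟨X.presheaf, X.IsSheaf⟩ : TopCat.Sheaf CommRingCat X.toTopCat) W v 0
      fun z hz => ?_
    show X.presheaf.germ W z hz v = X.presheaf.germ W z hz 0
    rw [map_zero]
    exact (mem_nonZeroDivisors_iff_right.1 (hsI z hz).2) _ (by rw [← map_mul, hv, map_zero])
  haveI : IsNoetherianRing Γ(X, W) := IsLocallyNoetherian.component_noetherian ⟨W, hW⟩
  let C := Γ(Y, U)
  let B := Γ(X, W)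
  let R := Y.presheaf.stalk (f x)
  let A := X.presheaf.stalk x
  let g : C →+* B := (f.appLE U W hWU).hom
  let P := (hW.primeIdealOf ⟨x, hxW⟩).asIdeal
  let p := (hU.primeIdealOf ⟨f x, hxU⟩).asIdeal
  letI := Y.presheaf.algebra_section_stalk ⟨f x, hxU⟩
  haveI := hU.isLocalization_stalk ⟨f x, hxU⟩
  letI := X.presheaf.algebra_section_stalk ⟨x, hxW⟩
  haveI := hW.isLocalization_stalk ⟨x, hxW⟩
  letI : Algebra R A := (f.stalkMap x).hom.toAlgebra
  haveI : IsLocalHom (algebraMap R A) := inferInstanceAs (IsLocalHom (f.stalkMap x).hom)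
  haveI : Module.Flat R A := Flat.stalkMap f x
  let gy : C →+* R := algebraMap C R
  let gx : B →+* A := algebraMap B A
  have hg : ∀ c, algebraMap R A (gy c) = gx (g c) := fun c => stalkMap_germ hWU hxW c
  have hprime : ∀ (z : X) (hz : z ∈ W) (c : C),
      c ∈ (hU.primeIdealOf ⟨f z, hWU hz⟩).asIdeal ↔ g c ∈ (hW.primeIdealOf ⟨z, hz⟩).asIdeal := fun z hz c => by
    rw [← congrArg PrimeSpectrum.asIdeal (IsAffineOpen.comap_primeIdealOf_appLE U hU W hW hWU hz)]
    exact Iff.rfl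
  let aA : A := gx a
  let I := (Ideal.span {aA}).comap (algebraMap R A)
  have hI : I.map (algebraMap R A) = Ideal.span {aA} := by
    refine map_comap_eq_of_local _ fun q hq w hw => ?_
    haveI := hq.isPrime
    let qC := q.comap gy
    haveI : qC.IsPrime := Ideal.IsPrime.comap gy
    obtain ⟨-, m, hm⟩ := isAssociatedPrime_iff.1 hq
    obtain ⟨x₀, rfl⟩ := Ideal.Quotient.mk_surjective m
    obtain ⟨⟨n₀, t₀⟩, hn₀⟩ := IsLocalization.surj p.primeCompl x₀
    have key : ∀ c : C, c ∈ qC ↔ gy (c * n₀) ∈ I := by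
      intro c
      rw [map_mul, show gy n₀ = x₀ * gy t₀.1 from hn₀.symm, ← mul_assoc,
        Ideal.mul_unit_mem_iff_mem _ (IsLocalization.map_units R t₀), Ideal.mem_comap, hm,
        Submodule.mem_colon_singleton, Submodule.mem_bot, Algebra.smul_def, Ideal.Quotient.algebraMap_eq,
        ← map_mul, Ideal.Quotient.eq_zero_iff_mem]
    let M : Submonoid B := P.primeCompl ⊔ qC.primeCompl.map g.toMonoidHom
    have hMb : ∀ b, b ∉ P → b ∈ M := fun b hb => Submonoid.mem_sup_left hb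
    have hMc : ∀ c, c ∉ qC → g c ∈ M := fun c hc => Submonoid.mem_sup_right ⟨c, hc, rfl⟩
    have hM : ∀ m ∈ M, ∃ b c, b ∉ P ∧ c ∉ qC ∧ b * g c = m := by
      intro m hm
      obtain ⟨b, hb, _, ⟨c, hc, rfl⟩, rfl⟩ := Submonoid.mem_sup.1 hm
      exact ⟨b, c, hb, hc, rfl⟩
    have hqp : qC ≤ p := fun c hc => by
      rw [← IsLocalization.AtPrime.to_map_mem_maximal_iff R p]
      exact IsLocalRing.le_maximalIdeal hq.isPrime.ne_top hc
    have hmemI : ∀ (b : B) (c : C), b ∉ P → b * g c ∈ Ideal.span {a} → gy c ∈ I := by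
      intro b c hb h
      have h1 := Ideal.mem_map_of_mem gx h
      rw [Ideal.map_span, Set.image_singleton, map_mul,
        Ideal.unit_mul_mem_iff_mem _ (IsLocalization.map_units A (⟨b, hb⟩ : P.primeCompl)), ← hg] at h1
      exact h1
    -- a point of depth at most one over the prime
    obtain ⟨Q₁, e₁, hQ₁, hQ₁M, hQ₁K, hQ₁e⟩ := exists_colon_prime a (g n₀) M fun m hm h => by
      obtain ⟨b, c, hb, hc, rfl⟩ := hM m hm
      exact hc ((key c).2 (hmemI b _ hb (by rw [map_mul, ← mul_assoc]; exact h)))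
    haveI := hQ₁
    have hQ₁P : Q₁ ≤ P := fun b hb => by_contra fun h => hQ₁M b (hMb b h) hb
    obtain ⟨z₁, hz₁W, hz₁x, hz₁Q, hdep₁⟩ := exists_point_of_colon f hW hxW ha hQ₁e hQ₁P
    have hz₁C : ∀ c, c ∈ (hU.primeIdealOf ⟨f z₁, hWU hz₁W⟩).asIdeal ↔ c ∈ qC := by
      intro c
      rw [hprime z₁ hz₁W, hz₁Q]
      refine ⟨fun h => by_contra fun hc => hQ₁M _ (hMc c hc) h, fun hc => ?_⟩
      have h1 : algebraMap R A (gy (c * n₀)) ∈ Ideal.span {aA} := (key c).1 hc
      rw [hg, show Ideal.span {aA} = (Ideal.span {a}).map gx by rw [Ideal.map_span, Set.image_singleton],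
        IsLocalization.algebraMap_mem_map_algebraMap_iff P.primeCompl] at h1
      obtain ⟨b, hb, hbc⟩ := h1
      have h2 : b * g c ∈ Q₁ := hQ₁K _ (by rw [mul_assoc, ← map_mul]; exact hbc)
      exact (hQ₁.mem_or_mem h2).resolve_left fun h => hQ₁M b (hMb b hb) h
    obtain ⟨c₀, hc₀⟩ := exists_affine_eq hU (hWU hz₁W) (H _ hdep₁)
    have hgood : ∀ (z : X) (hz : z ∈ W), (∀ m ∈ M, m ∉ (hW.primeIdealOf ⟨z, hz⟩).asIdeal) →
        LocCoh.depth (Y.presheaf.stalk (f z)) (Y.presheaf.stalk (f z)) ≤ 1 →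
        Ideal.span {X.presheaf.germ W z hz a} = Ideal.span {X.presheaf.germ W z hz (g c₀)} := by
      intro z hz hzM hdep
      have hsp : f z ⤳ f z₁ := specializes_of_le hU (hWU hz₁W) (hWU hz) fun c hc => by
        rw [hz₁C]
        exact by_contra fun h => hzM _ (hMc c h) ((hprime z hz c).1 hc)
      obtain ⟨_, h⟩ := goodI_of_descAt hJ (hc₀ z₁ rfl) hsp (H _ hdep)
      rw [(hsI z hz).1, stalkMap_germ hWU hz] at h
      exact h
    -- the equation at that point is a multiple of `a` off the prime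
    obtain ⟨b, s, hb, hs, v, hv⟩ : ∃ b s, b ∉ P ∧ s ∉ qC ∧ ∃ v, b * g s * g c₀ = v * a := by
      by_contra hne
      push Not at hne
      obtain ⟨Q₂, e₂, hQ₂, hQ₂M, hQ₂K, hQ₂e⟩ := exists_colon_prime a (g c₀) M fun m hm h => by
        obtain ⟨b, c, hb, hc, rfl⟩ := hM m hm
        obtain ⟨v, hv⟩ := Ideal.mem_span_singleton'.1 h
        exact hne b c hb hc v hv.symm
      haveI := hQ₂
      have hQ₂P : Q₂ ≤ P := fun b hb => by_contra fun h => hQ₂M b (hMb b h) hb
      obtain ⟨z₂, hz₂W, -, hz₂Q, hdep₂⟩ := exists_point_of_colon f hW hxW ha hQ₂e hQ₂P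
      have h := (hgood z₂ hz₂W (by rw [hz₂Q]; exact hQ₂M) hdep₂).ge (Ideal.mem_span_singleton_self _)
      rw [germ_mem_span_iff hW hz₂W] at h
      obtain ⟨t, ht, htc⟩ := h
      rw [hz₂Q] at ht
      exact ht (hQ₂K t htc)
    -- the cofactor is a unit off the prime
    obtain ⟨m, hm, hmv⟩ : ∃ m ∈ M, m ∈ Ideal.span {v} := by
      by_contra hne
      push Not at hne
      obtain ⟨P₃, hP₃, hvP₃, hP₃M⟩ := Ideal.exists_le_prime_disjoint (Ideal.span {v}) M
        (Set.disjoint_left.2 fun m h h' => hne m h' h)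
      haveI := hP₃
      obtain ⟨Q₃, hQ₃, hQ₃P⟩ := Ideal.exists_minimalPrimes_le hvP₃
      haveI := hQ₃.1.1
      have hQ₃M : ∀ m ∈ M, m ∉ Q₃ := fun m hm h => Set.disjoint_left.1 hP₃M (hQ₃P h) hm
      have hQ₃le : Q₃ ≤ P := fun b hb => by_contra fun h => hQ₃M b (hMb b h) hb
      obtain ⟨z₃, hz₃W, -, hz₃Q, hdim⟩ := exists_generization hW hxW Q₃ hQ₃le
      haveI : (Ideal.span {v}).IsPrincipal := ⟨v, rfl⟩
      have hht : Q₃.height ≤ 1 := Ideal.height_le_one_of_isPrincipal_of_mem_minimalPrimes (Ideal.span {v}) Q₃ hQ₃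
      have h := hgood z₃ hz₃W (by rw [hz₃Q]; exact hQ₃M)
        (depth_le_one_of_dim f z₃ (by rw [hdim]; exact_mod_cast hht))
      obtain ⟨w₁, hw₁⟩ := Ideal.mem_span_singleton'.1 (h.ge (Ideal.mem_span_singleton_self _))
      obtain ⟨w₂, hw₂⟩ := Ideal.mem_span_singleton'.1 (h.le (Ideal.mem_span_singleton_self _))
      have hna := mem_nonZeroDivisors_iff_right.1 (hsI z₃ hz₃W).2
      have h12 : w₂ * w₁ - 1 = 0 := hna _ (by linear_combination w₂ * hw₁ + hw₂)
      have hv₃ := congrArg (X.presheaf.germ W z₃ hz₃W) hv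
      simp only [map_mul] at hv₃
      have hvu : X.presheaf.germ W z₃ hz₃W v - X.presheaf.germ W z₃ hz₃W b * X.presheaf.germ W z₃ hz₃W (g s) * w₁ = 0 :=
        hna _ (by
          linear_combination (-1 : X.presheaf.stalk z₃) * hv₃ -
            (X.presheaf.germ W z₃ hz₃W b * X.presheaf.germ W z₃ hz₃W (g s)) * hw₁)
      letI := X.presheaf.algebra_section_stalk ⟨z₃, hz₃W⟩
      haveI := hW.isLocalization_stalk ⟨z₃, hz₃W⟩
      have hu : ∀ m ∈ M, IsUnit (X.presheaf.germ W z₃ hz₃W m) := fun m hm =>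
        IsLocalization.map_units (X.presheaf.stalk z₃)
          (⟨m, show m ∉ (hW.primeIdealOf ⟨z₃, hz₃W⟩).asIdeal by rw [hz₃Q]; exact hQ₃M m hm⟩ : (hW.primeIdealOf ⟨z₃, hz₃W⟩).asIdeal.primeCompl)
      have hvunit : IsUnit (X.presheaf.germ W z₃ hz₃W v) := by
        rw [sub_eq_zero.1 hvu]
        exact ((hu b (hMb b hb)).mul (hu _ (hMc s hs))).mul
          (IsUnit.of_mul_eq_one w₂ (by rw [mul_comm]; exact sub_eq_zero.1 h12))
      have hvm : X.presheaf.germ W z₃ hz₃W v ∈ maximalIdeal (X.presheaf.stalk z₃) :=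
        (IsLocalization.AtPrime.to_map_mem_maximal_iff (X.presheaf.stalk z₃) (hW.primeIdealOf ⟨z₃, hz₃W⟩).asIdeal v).2
          (by rw [hz₃Q]; exact hQ₃.1.2 (Ideal.mem_span_singleton_self v))
      exact hvm hvunit
    obtain ⟨b', s', hb', hs', rfl⟩ := hM m hm
    obtain ⟨w₀, hw₀⟩ := Ideal.mem_span_singleton'.1 hmv
    refine ⟨gy s', hs', ?_⟩
    obtain ⟨w', hw'⟩ := Ideal.mem_span_singleton'.1 hw
    rw [← hw', mul_left_comm]
    refine Ideal.mul_mem_left _ _ ?_
    have hsc : gy (s * c₀) ∈ I := hmemI b (s * c₀) hb (by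
      rw [map_mul, ← mul_assoc, hv]; exact Ideal.mem_span_singleton'.2 ⟨v, rfl⟩)
    refine (Ideal.unit_mul_mem_iff_mem _ (IsLocalization.map_units A (⟨b', hb'⟩ : P.primeCompl))).1 ?_
    have he : gx b' * (algebraMap R A (gy s') * aA) = (gx w₀ * gx b) * algebraMap R A (gy (s * c₀)) := by
      rw [hg, hg]
      simp only [aA, ← map_mul]
      congr 1
      rw [map_mul]
      linear_combination (-a) * hw₀ - w₀ * hv
    show gx b' * _ ∈ _
    rw [he]
    exact Ideal.mul_mem_left _ _ (Ideal.mem_map_of_mem _ hsc)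
  obtain ⟨i, -, hi⟩ := exists_gen_of_map_eq_span I (hsI x hxW).2 hI
  obtain ⟨⟨c, t⟩, hct⟩ := IsLocalization.surj p.primeCompl i
  refine ⟨c, hxU, ?_⟩
  rw [(hsI x hxW).1]
  show Ideal.span {aA} = Ideal.span {algebraMap R A (gy c)}
  rw [show gy c = i * gy t.1 from hct.symm, map_mul,
    Ideal.span_singleton_mul_right_unit ((IsLocalization.map_units R t).map (algebraMap R A))]
  exact (span_eq_of_associated hi).symm

/-- The divisor descends at every point. -/
theorem descAt_all (hJ : BlowUp.IsEffCartierIdeal J)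
    (H : ∀ y : Y, LocCoh.depth (Y.presheaf.stalk y) (Y.presheaf.stalk y) ≤ 1 → DescAt f J y) (y : Y) :
    DescAt f J y := by
  obtain ⟨U, hU, hy, -⟩ := exists_isAffineOpen_mem_and_subset (x := y) (U := (⊤ : Y.Opens)) trivial
  obtain ⟨x, rfl⟩ := f.surjective y
  obtain ⟨c, hc⟩ := exists_goodI hJ H hU x hy
  refine ⟨U, hy, c, mem_nonZeroDivisors_of_goodI hJ rfl hc hy, fun x' hx' => ?_⟩
  obtain ⟨c', hc'⟩ := exists_goodI hJ H hU x' (hx' ▸ hy)
  letI := Y.presheaf.algebra_section_stalk ⟨f x, hy⟩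
  haveI := hU.isLocalization_stalk ⟨f x, hy⟩
  let R := Y.presheaf.stalk (f x)
  let gy : Γ(Y, U) →+* R := algebraMap Γ(Y, U) R
  let p := (hU.primeIdealOf ⟨f x, hy⟩).asIdeal
  have hdvd : ∀ (c₁ c₂ : Γ(Y, U)) (x₁ x₂ : X), f x₁ = f x → f x₂ = f x → GoodI f J U c₁ x₁ →
      GoodI f J U c₂ x₂ → gy c₁ ∣ gy c₂ := by
    intro c₁ c₂ x₁ x₂ h₁ h₂ hg₁ hg₂
    refine dvd_of_local fun q hq => ?_
    haveI := hq.isPrime
    let qC := q.comap gy
    haveI : qC.IsPrime := Ideal.IsPrime.comap gy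
    obtain ⟨-, m, hm⟩ := isAssociatedPrime_iff.1 hq
    obtain ⟨x₀, rfl⟩ := Ideal.Quotient.mk_surjective m
    obtain ⟨⟨n₀, t₀⟩, hn₀⟩ := IsLocalization.surj p.primeCompl x₀
    have key : ∀ d : Γ(Y, U), d ∈ qC ↔ gy (d * n₀) ∈ Ideal.span {gy c₁} := by
      intro d
      rw [map_mul, show gy n₀ = x₀ * gy t₀.1 from hn₀.symm, ← mul_assoc,
        Ideal.mul_unit_mem_iff_mem _ (IsLocalization.map_units R t₀), Ideal.mem_comap, hm,
        Submodule.mem_colon_singleton, Submodule.mem_bot, Algebra.smul_def, Ideal.Quotient.algebraMap_eq,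
        ← map_mul, Ideal.Quotient.eq_zero_iff_mem]
    have hqp : qC ≤ p := fun d hd => by
      rw [← IsLocalization.AtPrime.to_map_mem_maximal_iff R p]
      exact IsLocalRing.le_maximalIdeal hq.isPrime.ne_top hd
    obtain ⟨y', hy', hsp, hP, -⟩ := exists_generization hU hy qC hqp
    obtain ⟨z₁, hz₁, hfz₁⟩ := Flat.generalizingMap f (h₁.symm ▸ hsp : y' ⤳ f x₁)
    obtain ⟨z₂, hz₂, hfz₂⟩ := Flat.generalizingMap f (h₂.symm ▸ hsp : y' ⤳ f x₂)
    have hbad : Groth.L01.Serre.Bad (Y.presheaf.stalk y') := by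
      letI := Y.presheaf.algebra_section_stalk ⟨y', hy'⟩
      haveI : IsLocalization.AtPrime (Y.presheaf.stalk y') qC := by
        have := hU.isLocalization_stalk ⟨y', hy'⟩
        simp only [hP] at this
        exact this
      refine bad_localization (Q := qC) (Y.presheaf.stalk y') (a := c₁) (e := n₀) (fun w hw => ?_)
        (fun t ht => ?_) (fun u hu h => hu ?_)
      · exact (mem_nonZeroDivisors_iff.1 (mem_nonZeroDivisors_of_goodI hJ hfz₁ (hg₁.generizes hJ hz₁) hy')).1 w hw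
      · have h1 : algebraMap Γ(Y, U) R (t * n₀) ∈ (Ideal.span {c₁}).map (algebraMap Γ(Y, U) R) := by
          rw [Ideal.map_span, Set.image_singleton]; exact (key t).1 ht
        rw [IsLocalization.algebraMap_mem_map_algebraMap_iff p.primeCompl] at h1
        obtain ⟨u, hu, hut⟩ := h1
        exact ⟨u, fun h => hu (hqp h), hut⟩
      · rw [key]
        have h1 := Ideal.mem_map_of_mem gy h
        rwa [Ideal.map_span, Set.image_singleton] at h1
    have hdep := le_one_of_not_two_le fun h2 => Groth.L01.Serre.not_bad_of_two_le_depth h2 hbad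
    obtain ⟨U', hy'', c₀, -, hc₀⟩ := H y' hdep
    have e₁ := span_eq_of_goodI hfz₁ (hg₁.generizes hJ hz₁) (hc₀ z₁ hfz₁) hy' hy''
    have e₂ := span_eq_of_goodI hfz₂ (hg₂.generizes hJ hz₂) (hc₀ z₂ hfz₂) hy' hy''
    have h3 := (e₁.trans e₂.symm).ge (Ideal.mem_span_singleton_self _)
    rw [germ_mem_span_iff hU hy', hP] at h3
    obtain ⟨u, hu, huc⟩ := h3
    refine ⟨gy u, hu, ?_⟩
    rw [← map_mul]
    exact map_dvd gy (Ideal.mem_span_singleton.1 huc)
  refine hc'.of_span_eq hx' hy hy (le_antisymm ?_ ?_)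
  · exact Ideal.span_singleton_le_span_singleton.2 (hdvd c c' x x' rfl hx' hc hc')
  · exact Ideal.span_singleton_le_span_singleton.2 (hdvd c' c x' x hx' rfl hc' hc)

variable (f)

/-- An effective Cartier divisor descends when it does so at the points of depth at most one. -/
theorem exists_ideal_descent (hf : QuasiCompact f ∨ IsOpenMap f) (hJ : BlowUp.IsEffCartierIdeal J)
    (H : ∀ y : Y, LocCoh.depth (Y.presheaf.stalk y) (Y.presheaf.stalk y) ≤ 1 → DescAt f J y) :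
    ∃ I : Y.IdealSheafData, BlowUp.IsEffCartierIdeal I ∧ I.comap f = J := by
  have hall := descAt_all hJ H
  choose U hy c hnzd hc using hall
  let idl : ∀ y : Y, Ideal (Y.presheaf.stalk y) := fun y => Ideal.span {Y.presheaf.germ (U y) y (hy y) (c y)}
  have hloc : ∀ y : Y, ∃ (G : Y.Opens) (d : Γ(Y, G)), y ∈ G ∧
      ∀ (z : Y) (hz : z ∈ G), idl z = Ideal.span {Y.presheaf.germ G z hz d} := by
    intro y
    let Z : Set X := {x | GoodI f J (U y) (c y) x}
    have hsat : f ⁻¹' (f '' Z) = Z := by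
      refine Set.Subset.antisymm (fun x hx => ?_) (Set.subset_preimage_image _ _)
      obtain ⟨x₀, hx₀, he⟩ := hx
      have hyU : f x ∈ U y := he ▸ hx₀.choose
      exact (hc (f x) x rfl).of_span_eq rfl (hy (f x)) hyU
        (span_eq_of_goodI he (hc (f x) x₀ he) hx₀ (hy (f x)) hyU)
    have hquot : Topology.IsQuotientMap f := by
      rcases hf with h | h
      · haveI := h; exact Flat.isQuotientMap_of_surjective f
      · exact h.isQuotientMap f.continuous f.surjective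
    let G : Y.Opens := ⟨f '' Z, hquot.isOpen_preimage.1 (by rw [hsat]; exact isOpen_goodI hJ _ _)⟩
    have hGU : G ≤ U y := by rintro _ ⟨x, hx, rfl⟩; exact hx.choose
    obtain ⟨x, rfl⟩ := f.surjective y
    refine ⟨G, Y.presheaf.map (homOfLE hGU).op (c (f x)), ⟨x, hc (f x) x rfl, rfl⟩, ?_⟩
    rintro z ⟨x', hx', rfl⟩
    rw [TopCat.Presheaf.germ_res_apply]
    exact span_eq_of_goodI rfl (hc (f x') x' rfl) hx' (hy (f x')) hx'.choose
  refine ⟨ofStalks idl hloc, ?_, ext_sI fun x => ?_⟩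
  · refine Groth.L22.Div.isEffCartier_of_stalks _ fun y _ V hyV => ⟨_, ?_, hnzd y⟩
    exact (sI_eq _ V hyV).symm.trans (sI_ofStalks idl hloc y)
  · obtain ⟨_, h⟩ := hc (f x) x rfl
    rw [sI_comap, sI_ofStalks, Ideal.map_span, Set.image_singleton, h]

end Groth.L20.SeeNormal
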