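import Groth.Agent.L20.SeeNormal.Sheaf
import Groth.Agent.L20.SeeNormal.Alg
import Groth.Agent.L20.SeeNormal.Chart
import Groth.Agent.L01.Serre
import Groth.Agent.L01.FibreEmb
import Groth.Agent.L06.FlatFibre
import Groth.Agent.L06.FlatCodepth
import Mathlib.RingTheory.Ideal.KrullsHeightTheorem

/-!
# Points of depth at most one under a divisor
-/

set_option autoImplicit false
set_option linter.style.haveILetI false
set_option backward.isDefEq.respectTransparency false
set_option backward.isDefEq.respectTransparency.types false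
universe u

open CategoryTheory AlgebraicGeometry TopologicalSpace IsLocalRing

noncomputable section

namespace Groth.L20.SeeNormal

theorem le_one_of_not_two_le {d : ℕ∞} (h : ¬ 2 ≤ d) : d ≤ 1 := by
  induction d using ENat.recTopCoe with
  | top => exact absurd le_top h
  | coe n =>
    have : ¬ (2 : ℕ) ≤ n := fun hn => h (by exact_mod_cast hn)
    exact_mod_cast (by omega : n ≤ 1)

/-- A colon prime of a regular element gives a local ring of depth at most one. -/
theorem bad_localization {B : Type u} [CommRing B] {Q : Ideal B} [Q.IsPrime] (A : Type u) [CommRing A]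
    [Algebra B A] [IsLocalization.AtPrime A Q] [IsLocalRing A] {a e : B}
    (ha : ∀ z : A, algebraMap B A a * z = 0 → z = 0)
    (h1 : ∀ t ∈ Q, ∃ u ∉ Q, u * (t * e) ∈ Ideal.span {a}) (h2 : ∀ u ∉ Q, u * e ∉ Ideal.span {a}) :
    Groth.L01.Serre.Bad A := by
  refine ⟨algebraMap B A a, algebraMap B A e, ha, ?_, fun t ht => ?_⟩
  · rw [← Set.image_singleton, ← Ideal.map_span, IsLocalization.algebraMap_mem_map_algebraMap_iff Q.primeCompl]
    rintro ⟨u, hu, hue⟩
    exact h2 u hu hue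
  · obtain ⟨⟨t₀, u₀⟩, ht₀⟩ := IsLocalization.surj Q.primeCompl t
    have htQ : t₀ ∈ Q := by
      rw [← IsLocalization.AtPrime.to_map_mem_maximal_iff A Q, ← ht₀]
      exact Ideal.mul_mem_right _ _ ht
    obtain ⟨u, hu, hue⟩ := h1 t₀ htQ
    have huu : IsUnit (algebraMap B A u * algebraMap B A u₀.1) :=
      (IsLocalization.map_units A (⟨u, hu⟩ : Q.primeCompl)).mul (IsLocalization.map_units A u₀)
    refine (Ideal.unit_mul_mem_iff_mem _ huu).1 ?_
    have h := Ideal.mem_map_of_mem (algebraMap B A) hue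
    rw [Ideal.map_span, Set.image_singleton, map_mul, map_mul, ← ht₀] at h
    convert h using 1
    ring

/-- A colon avoiding a multiplicative set lies in a colon prime avoiding it. -/
theorem exists_colon_prime {B : Type u} [CommRing B] [IsNoetherianRing B] (a x : B) (M : Submonoid B)
    (h : ∀ m ∈ M, m * x ∉ Ideal.span {a}) :
    ∃ (Q : Ideal B) (e : B), Q.IsPrime ∧ (∀ m ∈ M, m ∉ Q) ∧ (∀ t, t * x ∈ Ideal.span {a} → t ∈ Q) ∧
      ∀ t, t ∈ Q ↔ t * e ∈ Ideal.span {a} := by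
  let K : Ideal B := Submodule.comap (LinearMap.toSpanSingleton B B x) (Ideal.span {a})
  have hd : Disjoint (K : Set B) (M : Set B) := Set.disjoint_left.2 fun m hm hmM => h m hmM hm
  obtain ⟨P, hP, hKP, hPM⟩ := Ideal.exists_le_prime_disjoint K M hd
  haveI := hP
  obtain ⟨Q, hQ, hQP⟩ := Ideal.exists_minimalPrimes_le hKP
  obtain ⟨hQp, w, hw⟩ := isAssociatedPrime_iff.1 (Groth.L01.FibreEmb.minimalPrimes_subset_associatedPrimes_quotient K hQ)
  obtain ⟨e₀, rfl⟩ := Ideal.Quotient.mk_surjective w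
  refine ⟨Q, e₀ * x, hQp, fun m hm hmQ => Set.disjoint_left.1 hPM (hQP hmQ) hm, fun t ht => hQ.1.2 ht, fun t => ?_⟩
  rw [hw, Submodule.mem_colon_singleton, Submodule.mem_bot, Algebra.smul_def, Ideal.Quotient.algebraMap_eq,
    ← map_mul, Ideal.Quotient.eq_zero_iff_mem, ← mul_assoc]
  rfl

variable {X Y : Scheme.{u}} (f : X ⟶ Y) [Flat f] [IsLocallyNoetherian X] [IsLocallyNoetherian Y]

theorem two_le_depth_of_base (z : X) (h : 2 ≤ LocCoh.depth (Y.presheaf.stalk (f z)) (Y.presheaf.stalk (f z))) :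
    2 ≤ LocCoh.depth (X.presheaf.stalk z) (X.presheaf.stalk z) := by
  letI := (f.stalkMap z).hom.toAlgebra
  haveI : IsLocalHom (algebraMap (Y.presheaf.stalk (f z)) (X.presheaf.stalk z)) :=
    inferInstanceAs (IsLocalHom (f.stalkMap z).hom)
  haveI : Module.Flat (Y.presheaf.stalk (f z)) (X.presheaf.stalk z) := Flat.stalkMap f z
  exact (h.trans le_self_add).trans (Groth.L06.FlatFibre.depth_add_le (Y.presheaf.stalk (f z)) (X.presheaf.stalk z))

theorem depth_le_one_of_bad (z : X) (h : Groth.L01.Serre.Bad (X.presheaf.stalk z)) :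
    LocCoh.depth (Y.presheaf.stalk (f z)) (Y.presheaf.stalk (f z)) ≤ 1 :=
  le_one_of_not_two_le fun h2 => Groth.L01.Serre.not_bad_of_two_le_depth (two_le_depth_of_base f z h2) h

theorem depth_le_one_of_dim (z : X) (h : ringKrullDim (X.presheaf.stalk z) ≤ 1) :
    LocCoh.depth (Y.presheaf.stalk (f z)) (Y.presheaf.stalk (f z)) ≤ 1 :=
  le_one_of_not_two_le fun h2 => by
    have h3 : ((2 : ℕ∞) : WithBot ℕ∞) ≤ ((1 : ℕ∞) : WithBot ℕ∞) :=
      ((WithBot.coe_le_coe.2 (two_le_depth_of_base f z h2)).trans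
        (Groth.L06.FlatCodepth.depth_le_dim (X.presheaf.stalk z))).trans h
    exact absurd (WithBot.coe_le_coe.1 h3) (by decide)

omit [Flat f] [IsLocallyNoetherian X] [IsLocallyNoetherian Y] in
/-- Specialisation in an affine open from primes. -/
theorem specializes_of_le {U : Y.Opens} (hU : IsAffineOpen U) {y y' : Y} (hy : y ∈ U) (hy' : y' ∈ U)
    (h : (hU.primeIdealOf ⟨y', hy'⟩).asIdeal ≤ (hU.primeIdealOf ⟨y, hy⟩).asIdeal) : y' ⤳ y := by
  have h2 := ((PrimeSpectrum.le_iff_specializes _ _).1 h).map hU.fromSpec.continuous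
  rwa [hU.fromSpec_primeIdealOf, hU.fromSpec_primeIdealOf] at h2

omit [Flat f] [IsLocallyNoetherian X] [IsLocallyNoetherian Y] in
/-- Localised membership read on sections. -/
theorem germ_mem_span_iff {U : Y.Opens} (hU : IsAffineOpen U) {y : Y} (hy : y ∈ U) (a b : Γ(Y, U)) :
    Y.presheaf.germ U y hy b ∈ Ideal.span {Y.presheaf.germ U y hy a} ↔
      ∃ u ∉ (hU.primeIdealOf ⟨y, hy⟩).asIdeal, u * b ∈ Ideal.span {a} := by
  letI := Y.presheaf.algebra_section_stalk ⟨y, hy⟩
  haveI := hU.isLocalization_stalk ⟨y, hy⟩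
  show algebraMap Γ(Y, U) (Y.presheaf.stalk y) b ∈ Ideal.span {algebraMap Γ(Y, U) (Y.presheaf.stalk y) a} ↔ _
  rw [← Set.image_singleton, ← Ideal.map_span,
    IsLocalization.algebraMap_mem_map_algebraMap_iff (hU.primeIdealOf ⟨y, hy⟩).asIdeal.primeCompl]
  rfl

/-- The point of a colon prime, with bounded depth below. -/
theorem exists_point_of_colon {W : X.Opens} (hW : IsAffineOpen W) {x : X} (hx : x ∈ W) {a : Γ(X, W)}
    (ha : a ∈ nonZeroDivisors Γ(X, W)) {Q : Ideal Γ(X, W)} [Q.IsPrime] {e : Γ(X, W)}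
    (hQ : ∀ t, t ∈ Q ↔ t * e ∈ Ideal.span {a}) (hle : Q ≤ (hW.primeIdealOf ⟨x, hx⟩).asIdeal) :
    ∃ (z : X) (hz : z ∈ W), z ⤳ x ∧ (hW.primeIdealOf ⟨z, hz⟩).asIdeal = Q ∧
      LocCoh.depth (Y.presheaf.stalk (f z)) (Y.presheaf.stalk (f z)) ≤ 1 := by
  obtain ⟨z, hz, hzx, hzQ, -⟩ := exists_generization hW hx Q hle
  refine ⟨z, hz, hzx, hzQ, depth_le_one_of_bad f z ?_⟩
  letI := X.presheaf.algebra_section_stalk ⟨z, hz⟩
  haveI : IsLocalization.AtPrime (X.presheaf.stalk z) Q := by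
    have := hW.isLocalization_stalk ⟨z, hz⟩
    simp only [hzQ] at this
    exact this
  refine bad_localization (Q := Q) (X.presheaf.stalk z) (a := a) (e := e) (fun w hw => ?_)
    (fun t ht => ⟨1, fun h1 => ‹Q.IsPrime›.ne_top ((Ideal.eq_top_iff_one Q).2 h1), by
      rw [one_mul]; exact (hQ t).1 ht⟩)
    (fun u hu h => hu ((hQ u).2 h))
  exact (mem_nonZeroDivisors_iff.1
    (IsLocalization.map_nonZeroDivisors_le Q.primeCompl (X.presheaf.stalk z) ⟨a, ha, rfl⟩)).1 w hw

end Groth.L20.SeeNormal
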