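import Groth.Agent.L20.SeeNormal.Uniform

/-!
# Descent of effective divisors along maps with integral fibres in codimension one
-/

set_option autoImplicit false
set_option linter.style.haveILetI false
set_option linter.unusedSectionVars false
set_option backward.isDefEq.respectTransparency false
set_option backward.isDefEq.respectTransparency.types false
universe u

open CategoryTheory CategoryTheory.Limits AlgebraicGeometry TopologicalSpace IsLocalRing

noncomputable section

namespace Groth.L20.SeeNormal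

variable {X Y : Scheme.{u}}

theorem eq_of_specializes_of_maximal_bot {Z : Scheme.{u}} {z z' : Z} (h : maximalIdeal (Z.presheaf.stalk z) = ⊥)
    (hsp : z' ⤳ z) : z' = z := by
  obtain ⟨q, rfl⟩ : z' ∈ Set.range (Z.fromSpecStalk z) := by rw [Scheme.range_fromSpecStalk]; exact hsp
  have : q = closedPoint (Z.presheaf.stalk z) := PrimeSpectrum.ext <|
    le_antisymm (le_maximalIdeal q.isPrime.ne_top) (by
      show maximalIdeal _ ≤ _
      rw [h]; exact bot_le)
  rw [this, Scheme.fromSpecStalk_closedPoint]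

theorem maximalIdeal_eq_bot_of_assoc {R : Type u} [CommRing R] [IsDomain R] [IsLocalRing R]
    (h : IsAssociatedPrime (maximalIdeal R) R) [IsNoetherianRing R] : maximalIdeal R = ⊥ := by
  obtain ⟨-, x, hx⟩ := isAssociatedPrime_iff.1 h
  refine eq_bot_iff.2 fun w hw => ?_
  rw [hx, Submodule.mem_colon_singleton, Submodule.mem_bot, smul_eq_mul, mul_eq_zero] at hw
  refine (hw.resolve_right fun h0 => ?_ : w = 0)
  have h1 : (1 : R) ∈ maximalIdeal R := by
    rw [hx, Submodule.mem_colon_singleton, Submodule.mem_bot, h0, smul_zero]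
  exact (maximalIdeal R).ne_top_iff_one.1 (maximalIdeal.isMaximal R).ne_top h1

theorem maximalIdeal_eq_span_congr {y y' : Y} (h : y = y') {t : Y.presheaf.stalk y}
    (ht : maximalIdeal (Y.presheaf.stalk y) = Ideal.span {t}) :
    maximalIdeal (Y.presheaf.stalk y') = Ideal.span {(Y.presheaf.stalkCongr (.of_eq h)).hom t} := by
  subst h
  simpa using ht

variable (f : X ⟶ Y) [Flat f] [Surjective f] [IsLocallyNoetherian X] [IsLocallyNoetherian Y] {J : X.IdealSheafData}

/-- At the generic point of an integral fibre the source has the maximal ideal of the base. -/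
theorem maximalIdeal_eq_map_of_generic {y : Y} (v : ↥(f.fiber y))
    (hv : maximalIdeal ((f.fiber y).presheaf.stalk v) = ⊥) :
    maximalIdeal (X.presheaf.stalk (f.fiberι y v)) =
      (maximalIdeal (Y.presheaf.stalk (f (f.fiberι y v)))).map (f.stalkMap (f.fiberι y v)).hom := by
  obtain ⟨-, hker⟩ := Groth.L18.stalkMap_fiberι f y v
  rw [← hker]
  refine le_antisymm (fun w hw => ?_) (le_maximalIdeal (RingHom.ker_ne_top _))
  have h1 : ((f.fiberι y).stalkMap v).hom w ∈ maximalIdeal ((f.fiber y).presheaf.stalk v) :=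
    map_nonunit ((f.fiberι y).stalkMap v).hom w hw
  rw [hv] at h1
  exact h1

theorem exists_descent_of_integral_fibres (hf : QuasiCompact f ∨ IsOpenMap f) (hY : Pi1.IsNormalScheme Y)
    (hfib : ∀ y : ↥Y, ringKrullDim ↑(Y.presheaf.stalk y) = 1 → IsIntegral (f.fiber y))
    (hJ : BlowUp.IsEffCartierIdeal J)
    (hgen : ∀ η : Y, (∀ z : Y, z ⤳ η → z = η) → J.comap (f.fiberι η) = ⊤) :
    ∃ I : Y.IdealSheafData, BlowUp.IsEffCartierIdeal I ∧ I.comap f = J := by
  have hnoeth : ∀ (y : Y) (v : ↥(f.fiber y)), IsNoetherianRing ((f.fiber y).presheaf.stalk v) := fun y v =>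
    isNoetherianRing_of_surjective (X.presheaf.stalk (f.fiberι y v)) _
      ((f.fiberι y).stalkMap v).hom (Groth.L18.stalkMap_fiberι f y v).1
  refine exists_descent_of_orders f hf hY (fun y hd z z' hz hz' hsp => ?_) hJ hgen fun y hd => ?_
  · haveI := hfib y hd
    haveI := hnoeth y z
    exact eq_of_specializes_of_maximal_bot (maximalIdeal_eq_bot_of_assoc hz) hsp
  haveI := hfib y hd
  let ξ := genericPoint ↥(f.fiber y)
  have hξ : maximalIdeal ((f.fiber y).presheaf.stalk ξ) = ⊥ :=
    (isField_iff_maximalIdeal_eq).1 (Field.toIsField ((f.fiber y).functionField))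
  obtain ⟨t₀, -, ht₀, -⟩ := exists_uniformizer_stalk hY hd
  have hfx : f (f.fiberι y ξ) = y := by
    have : f.fiberι y ξ ∈ f ⁻¹' {y} := by rw [← f.range_fiberι]; exact ⟨ξ, rfl⟩
    exact this
  have hmax : ∀ t : Y.presheaf.stalk y, maximalIdeal (Y.presheaf.stalk y) = Ideal.span {t} →
      maximalIdeal (X.presheaf.stalk (f.fiberι y ξ)) =
        Ideal.span {(f.stalkMap (f.fiberι y ξ)).hom ((Y.presheaf.stalkCongr (.of_eq hfx.symm)).hom t)} := fun t ht => by
    rw [maximalIdeal_eq_map_of_generic f ξ hξ, maximalIdeal_eq_span_congr hfx.symm ht, Ideal.map_span,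
      Set.image_singleton]
  obtain ⟨W, a, hxW, -, hW⟩ := exists_sI_eq_span hJ (f.fiberι y ξ)
  obtain ⟨h1, h2⟩ := hW _ hxW
  generalize X.presheaf.germ W.1 (f.fiberι y ξ) hxW a = g at h1 h2
  have hg : g ≠ 0 := nonZeroDivisors.ne_zero h2
  let π := (f.stalkMap (f.fiberι y ξ)).hom ((Y.presheaf.stalkCongr (.of_eq hfx.symm)).hom t₀)
  have hπ : maximalIdeal (X.presheaf.stalk (f.fiberι y ξ)) = Ideal.span {π} := hmax t₀ ht₀
  have hex : ∃ n, g ∉ maximalIdeal (X.presheaf.stalk (f.fiberι y ξ)) ^ n := by
    by_contra hne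
    push Not at hne
    have : g ∈ ⨅ n, maximalIdeal (X.presheaf.stalk (f.fiberι y ξ)) ^ n := Ideal.mem_iInf.2 hne
    rw [Ideal.iInf_pow_eq_bot_of_isLocalRing _ (maximalIdeal.isMaximal _).ne_top] at this
    exact hg this
  classical
  let n := Nat.find hex
  have hn0 : n ≠ 0 := fun h0 => by
    have := Nat.find_spec hex
    rw [show Nat.find hex = 0 from h0, pow_zero, Ideal.one_eq_top] at this
    exact this trivial
  obtain ⟨k, hk⟩ := Nat.exists_eq_succ_of_ne_zero hn0
  have hin : g ∈ Ideal.span {π ^ k} := by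
    rw [← Ideal.span_singleton_pow, ← hπ]
    exact not_not.1 (Nat.find_min hex (show k < n by omega))
  obtain ⟨u, rfl⟩ := Ideal.mem_span_singleton'.1 hin
  have hu : IsUnit u := by
    by_contra hu
    refine Nat.find_spec hex ?_
    rw [show Nat.find hex = k.succ from hk, pow_succ']
    refine Ideal.mul_mem_mul ((mem_maximalIdeal u).2 hu) ?_
    rw [hπ, Ideal.span_singleton_pow]
    exact Ideal.mem_span_singleton_self _
  refine ⟨k, fun t ht x hx hxmax => ?_⟩
  obtain ⟨w, rfl⟩ : x ∈ Set.range (f.fiberι y) := by rw [f.range_fiberι]; exact hx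
  have hwξ : w = ξ := (f.fiberι y).isEmbedding.injective
    (hxmax (f.fiberι y ξ) hfx ((genericPoint_specializes w).map (f.fiberι y).continuous)).symm
  subst hwξ
  rw [h1, Ideal.span_singleton_mul_left_unit hu, ← Ideal.span_singleton_pow, ← Ideal.span_singleton_pow]
  exact congrArg (· ^ k) (hπ.symm.trans (hmax t ht))

end Groth.L20.SeeNormal
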