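import Groth.Agent.L20.SeeNormal.Chart

/-!
# A chart near every fibre

The ratio of scalars of a chart is determined on a fibre by its valuations in codimension one, so a
chart near one point extends to a neighbourhood of the whole fibre.
-/

set_option autoImplicit false
set_option linter.style.haveILetI false
set_option linter.unusedSectionVars false
set_option backward.isDefEq.respectTransparency false
set_option backward.isDefEq.respectTransparency.types false
universe u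

open CategoryTheory CategoryTheory.Limits AlgebraicGeometry TopologicalSpace Opposite

noncomputable section

namespace Groth.L20.SeeNormal

open Groth.L18.Frame (rs ro pull IsFrame rs_rs rs_smul rs_self ro_ro ro_self pull_rs pull_smul)

variable {X Y : Scheme.{u}} {f : X ⟶ Y} [Flat f] {L : X.Modules} {η : Y}
  {σ : Γ((Scheme.Modules.pullback (f.fiberι η)).obj L, ⊤)} {U : Y.Opens} (hU : IsAffineOpen U) (hη : η ∈ U)
  [IsDomain Γ(Y, U)] (hbot : (hU.primeIdealOf ⟨η, hη⟩).asIdeal = ⊥)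

include hbot in
/-- Charts through a common point have associated scalars at its image. -/
theorem associated_stalk (hY : Pi1.IsNormalScheme Y) (hσ : IsFrame _ ⊤ σ) {p q p' q' : Γ(Y, U)} {W W' : X.Opens}
    (h : Good f L η σ U p q W) (h' : Good f L η σ U p' q' W') {x : X} (hx : x ∈ W) (hx' : x ∈ W')
    {y : Y} (hxy : f x = y) (hy : y ∈ U) :
    Associated (Y.presheaf.germ U y hy (q' * p)) (Y.presheaf.germ U y hy (q * p')) := by
  subst hxy
  obtain ⟨V, hxV, hVW, u, hu, he⟩ := associated_of_good hU hη hbot hσ h h' hx hx' hy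
  letI := (f.stalkMap x).hom.toAlgebra
  haveI : IsLocalHom (algebraMap (Y.presheaf.stalk (f x)) (X.presheaf.stalk x)) :=
    inferInstanceAs (IsLocalHom (f.stalkMap x).hom)
  haveI : Module.Flat (Y.presheaf.stalk (f x)) (X.presheaf.stalk x) := Flat.stalkMap f x
  haveI := (hY (f x)).1
  refine associated_of_algebraMap (A := X.presheaf.stalk x) ?_
  have hst : ∀ c : Γ(Y, U), algebraMap (Y.presheaf.stalk (f x)) (X.presheaf.stalk x)
      (Y.presheaf.germ U (f x) hy c) =
        X.presheaf.germ V x hxV (f.appLE U V ((hVW.trans inf_le_left).trans h.le) c) := fun c => by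
    show f.stalkMap x (Y.presheaf.germ U (f x) hy c) = _
    rw [Scheme.Hom.germ_stalkMap_apply, Scheme.Hom.appLE, CommRingCat.comp_apply, TopCat.Presheaf.germ_res_apply]
  rw [hst, hst, ← he, map_mul (X.presheaf.germ V x hxV).hom _ u]
  exact (associated_mul_unit_right _ _ (hu.map (X.presheaf.germ V x hxV).hom))

variable [IsLocallyNoetherian Y]

include hbot in
/-- A chart near a point extends to every point of its fibre. -/
theorem good_of_mem_fibre (hY : Pi1.IsNormalScheme Y)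
    (hfib : ∀ y : Y, ringKrullDim (Y.presheaf.stalk y) = 1 → IsIntegral (f.fiber y))
    (hσ : IsFrame _ ⊤ σ) {p q p' q' : Γ(Y, U)} (hp : p ≠ 0) (hq : q ≠ 0) (hp' : p' ≠ 0) (hq' : q' ≠ 0)
    {W W' : X.Opens} (h : Good f L η σ U p q W) (h' : Good f L η σ U p' q' W') {x x' : X}
    (hx : x ∈ W) (hx' : x' ∈ W') (hxx : f x' = f x) :
    ∃ W'' : X.Opens, x' ∈ W'' ∧ Good f L η σ U p q W'' := by
  have hy : f x ∈ U := h.le hx
  letI := Y.presheaf.algebra_section_stalk ⟨f x, hy⟩
  haveI := hU.isLocalization_stalk ⟨f x, hy⟩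
  haveI := (hY (f x)).1
  haveI := (hY (f x)).2
  let R := Y.presheaf.stalk (f x)
  let g : Γ(Y, U) →+* R := algebraMap Γ(Y, U) R
  have hinj : Function.Injective g :=
    IsLocalization.injective _ (Ideal.primeCompl_le_nonZeroDivisors (hU.primeIdealOf ⟨f x, hy⟩).asIdeal)
  have hdvd : ∀ a b : Γ(Y, U), a ≠ 0 → b ≠ 0 → (∀ (y' : Y) (hy' : y' ∈ U), y' ⤳ f x →
      ringKrullDim (Y.presheaf.stalk y') = 1 →
      Y.presheaf.germ U y' hy' b ∣ Y.presheaf.germ U y' hy' a) → g b ∣ g a := by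
    intro a b ha hb hh
    refine dvd_of_local fun Q hQ => ?_
    haveI := hQ.isPrime
    have hht := Groth.L01.height_eq_one_of_mem_associatedPrimes ((map_ne_zero_iff g hinj).2 hb) hQ
    let P := Q.comap g
    haveI : P.IsPrime := Ideal.IsPrime.comap g
    have hle : P ≤ (hU.primeIdealOf ⟨f x, hy⟩).asIdeal := by
      intro c hc
      rw [← IsLocalization.AtPrime.to_map_mem_maximal_iff R (hU.primeIdealOf ⟨f x, hy⟩).asIdeal]
      exact IsLocalRing.le_maximalIdeal hQ.isPrime.ne_top hc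
    obtain ⟨y', hy', hsp, hP, hdim⟩ := exists_generization hU hy P hle
    have hhP : P.height = 1 := by
      rw [← hht]; exact IsLocalization.height_under (hU.primeIdealOf ⟨f x, hy⟩).asIdeal.primeCompl Q
    letI := Y.presheaf.algebra_section_stalk ⟨y', hy'⟩
    haveI := hU.isLocalization_stalk ⟨y', hy'⟩
    have h1 : algebraMap Γ(Y, U) (Y.presheaf.stalk y') a ∈
        (Ideal.span {b}).map (algebraMap Γ(Y, U) (Y.presheaf.stalk y')) := by
      rw [Ideal.map_span, Set.image_singleton, Ideal.mem_span_singleton]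
      exact hh y' hy' hsp (by rw [hdim, hhP]; rfl)
    rw [IsLocalization.algebraMap_mem_map_algebraMap_iff (hU.primeIdealOf ⟨y', hy'⟩).asIdeal.primeCompl] at h1
    obtain ⟨s, hs, hsb⟩ := h1
    refine ⟨g s, fun hsQ => hs (hP.ge hsQ), ?_⟩
    rw [← map_mul]
    exact map_dvd g (Ideal.mem_span_singleton.1 hsb)
  have hass : ∀ (y' : Y) (hy' : y' ∈ U), y' ⤳ f x → ringKrullDim (Y.presheaf.stalk y') = 1 →
      Associated (Y.presheaf.germ U y' hy' (q' * p)) (Y.presheaf.germ U y' hy' (q * p')) := by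
    intro y' hy' hsp hdim
    haveI := hfib y' hdim
    let z := f.fiberι y' (genericPoint (f.fiber y'))
    have hzy : f z = y' := by
      have : z ∈ f ⁻¹' {y'} := by rw [← f.range_fiberι]; exact ⟨_, rfl⟩
      exact this
    have hgen : ∀ x₀ : X, f x₀ = f x → z ⤳ x₀ := by
      intro x₀ hx₀
      obtain ⟨x₁, hx₁, hfx₁⟩ := Flat.generalizingMap f (hx₀ ▸ hsp : y' ⤳ f x₀)
      obtain ⟨w, hw⟩ : x₁ ∈ Set.range (f.fiberι y') := by rw [f.range_fiberι]; exact hfx₁
      exact ((genericPoint_specializes w).map (f.fiberι y').continuous).trans (hw ▸ hx₁)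
    exact associated_stalk hU hη hbot hY hσ h h' ((hgen x rfl).mem_open W.2 hx)
      ((hgen x' hxx).mem_open W'.2 hx') hzy hy'
  have hne₁ : q' * p ≠ 0 := mul_ne_zero hq' hp
  have hne₂ : q * p' ≠ 0 := mul_ne_zero hq hp'
  obtain ⟨v, hv⟩ : Associated (g (q' * p)) (g (q * p')) :=
    associated_of_dvd_dvd (hdvd _ _ hne₂ hne₁ fun y' a b c => (hass y' a b c).dvd)
      (hdvd _ _ hne₁ hne₂ fun y' a b c => (hass y' a b c).symm.dvd)
  obtain ⟨V₁, hyV₁, c, hc⟩ := Y.presheaf.exists_germ_eq (v : R)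
  have hcu : f x ∈ Y.basicOpen c := (Y.mem_basicOpen c (f x) hyV₁).2 (by rw [hc]; exact v.isUnit)
  let V₂ : Y.Opens := U ⊓ Y.basicOpen c
  have e1 : Y.presheaf.germ V₂ (f x) ⟨hy, hcu⟩
      (ro (inf_le_left : V₂ ≤ U) (q' * p) * ro (inf_le_right.trans (Y.basicOpen_le c)) c) =
      Y.presheaf.germ V₂ (f x) ⟨hy, hcu⟩ (ro inf_le_left (q * p')) := by
    rw [map_mul, TopCat.Presheaf.germ_res_apply, TopCat.Presheaf.germ_res_apply, TopCat.Presheaf.germ_res_apply, hc]
    exact hv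
  obtain ⟨V, hyV, i₁, i₂, e2⟩ := TopCat.Presheaf.germ_eq Y.presheaf (U := V₂) (V := V₂) (f x) ⟨hy, hcu⟩ ⟨hy, hcu⟩ _ _ e1
  have hVU : V ≤ U := i₁.le.trans inf_le_left
  have hVb : V ≤ Y.basicOpen c := i₁.le.trans inf_le_right
  let c' : Γ(Y, V) := ro hVb (ro (Y.basicOpen_le c) c)
  have hc' : IsUnit c' := (RingedSpace.isUnit_res_basicOpen Y.toRingedSpace c).map (Y.presheaf.map (homOfLE hVb).op).hom
  have e3 : ro hVU (q' * p) * c' = ro hVU (q * p') := by
    have e2' : ro i₁.le (ro (inf_le_left : V₂ ≤ U) (q' * p) * ro (inf_le_right.trans (Y.basicOpen_le c)) c) =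
        ro i₁.le (ro inf_le_left (q * p')) := e2
    rw [Groth.L18.Frame.ro_mul, ro_ro, ro_ro, ro_ro] at e2'
    rw [show c' = ro (hVb.trans (Y.basicOpen_le c)) c from ro_ro _ _ _]
    exact e2'
  obtain ⟨hle', e', he', hrel'⟩ := h'
  let W'' : X.Opens := W' ⊓ f ⁻¹ᵁ V
  let C : Γ(X, W'') := f.appLE V W'' inf_le_right c'
  refine ⟨W'', ⟨hx', by show f x' ∈ V; rw [hxx]; exact hyV⟩, inf_le_left.trans hle', _,
    (he'.mono (inf_le_left : W'' ≤ W')).smul_unit (hc'.map (f.appLE V W'' inf_le_right).hom : IsUnit C), ?_⟩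
  have hrel := rel_mono hle' (inf_le_left : W'' ≤ W') hrel'
  have hV : ∀ a : Γ(Y, U), f.appLE U W'' (inf_le_left.trans hle') a = f.appLE V W'' inf_le_right (ro hVU a) :=
    fun a => congr($((Scheme.Hom.map_appLE f (inf_le_right : W'' ≤ f ⁻¹ᵁ V) (homOfLE hVU).op).symm) a)
  refine (isUnit_cst f hU hη hbot ((inf_le_left : W'' ≤ W').trans hle') hq').smul_left_cancel.1 ?_
  rw [pull_smul, smul_smul, smul_smul, smul_smul (cst f η _ q') (cst f η _ q),
    mul_comm (cst f η _ q') (cst f η _ q), ← smul_smul (cst f η _ q) (cst f η _ q'), ← hrel, smul_smul]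
  congr 1
  show (f.fiberι η).app W'' _ * (f.fiberι η).app W'' _ * (f.fiberι η).app W'' C = (f.fiberι η).app W'' _ * (f.fiberι η).app W'' _
  refine ((map_mul ((f.fiberι η).app W'').hom _ _).trans (congrArg (· * _) (map_mul ((f.fiberι η).app W'').hom _ _))).symm.trans
    ((congrArg ((f.fiberι η).app W'') ?_).trans (map_mul ((f.fiberι η).app W'').hom _ _))
  have h4 := congrArg (f.appLE V W'' inf_le_right) e3
  rw [map_mul] at h4
  refine Eq.trans ?_ (h4.trans ((hV (q * p')).symm.trans (map_mul _ q p')))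
  exact congrArg (· * C) ((map_mul _ q' p).symm.trans (hV (q' * p)))

include hbot in
/-- A chart on the preimage of a neighbourhood of a given point. -/
theorem exists_chart [IsLocallyNoetherian X] [Surjective f] (hf : QuasiCompact f ∨ IsOpenMap f)
    (hY : Pi1.IsNormalScheme Y)
    (hfib : ∀ y : Y, ringKrullDim (Y.presheaf.stalk y) = 1 → IsIntegral (f.fiber y))
    (hL : PicF.IsInvertible L) (hσ : IsFrame _ ⊤ σ) {y : Y} (hy : y ∈ U) :
    ∃ (V : Y.Opens) (p q : Γ(Y, U)), y ∈ V ∧ V ≤ U ∧ p ≠ 0 ∧ q ≠ 0 ∧ Good f L η σ U p q (f ⁻¹ᵁ V) := by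
  obtain ⟨x, rfl⟩ := f.surjective y
  obtain ⟨p, q, W, hp, hq, hxW, hW⟩ := exists_good_near hU hη hbot hY hfib hL hσ x hy
  let Z : Set X := {x' | ∃ W' : X.Opens, x' ∈ W' ∧ Good f L η σ U p q W'}
  have hsat : f ⁻¹' (f '' Z) = Z := by
    refine Set.Subset.antisymm (fun x' hx' => ?_) (Set.subset_preimage_image _ _)
    obtain ⟨x₀, ⟨W₀, hx₀, hW₀⟩, he⟩ := hx'
    obtain ⟨p', q', W', hp', hq', hxW', hW'⟩ := exists_good_near hU hη hbot hY hfib hL hσ x'
      (show f x' ∈ U by rw [← he]; exact hW₀.le hx₀)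
    exact good_of_mem_fibre hU hη hbot hY hfib hσ hp hq hp' hq' hW₀ hW' hx₀ hxW' he.symm
  have hZ : IsOpen Z := isOpen_iff_forall_mem_open.2 fun x' ⟨W', hx', hW'⟩ =>
    ⟨W', fun z hz => ⟨W', hz, hW'⟩, W'.2, hx'⟩
  have hquot : Topology.IsQuotientMap f := by
    rcases hf with h | h
    · haveI := h; exact Flat.isQuotientMap_of_surjective f
    · exact h.isQuotientMap f.continuous f.surjective
  have hG : IsOpen (f '' Z) := hquot.isOpen_preimage.1 (by rw [hsat]; exact hZ)
  let V : Y.Opens := ⟨f '' Z, hG⟩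
  have hVU : V ≤ U := by
    rintro _ ⟨x', ⟨W', hx', hW'⟩, rfl⟩
    exact hW'.le hx'
  refine ⟨V, p, q, ⟨x, ⟨W, hxW, hW⟩, rfl⟩, hVU, hp, hq, ?_⟩
  let I := {W' : X.Opens // Good f L η σ U p q W'}
  refine Good.glue hU hη hbot hp (fun i : I => f ⁻¹ᵁ V ⊓ i.1) _ (fun i => inf_le_left) (fun x' hx' => ?_)
    (f.preimage_mono hVU) fun i => i.2.mono inf_le_right
  obtain ⟨W', hxW', hW'⟩ : x' ∈ Z := hsat.le hx'
  exact Opens.mem_iSup.2 ⟨⟨W', hW'⟩, hx', hxW'⟩

end Groth.L20.SeeNormal
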