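import Groth.Agent.L20.SeeNormal.Cod1
import Groth.Agent.L20.SeeNormal.Local

/-!
# Descent of effective divisors by orders along the fibres in codimension one
-/

set_option autoImplicit false
set_option linter.style.haveILetI false
set_option linter.unusedSectionVars false
set_option backward.isDefEq.respectTransparency false
set_option backward.isDefEq.respectTransparency.types false
universe u

open CategoryTheory CategoryTheory.Limits AlgebraicGeometry TopologicalSpace IsLocalRing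

noncomputable section

namespace Groth.L20.SeeNormal

variable {X Y : Scheme.{u}}

theorem stalkCongr_germ {U : Y.Opens} {y y' : Y} (h : y = y') (hy : y ∈ U) (hy' : y' ∈ U) (c : Γ(Y, U)) :
    (Y.presheaf.stalkCongr (.of_eq h)).hom (Y.presheaf.germ U y hy c) = Y.presheaf.germ U y' hy' c := by
  subst h
  simp

theorem sI_top (x : X) : sI (⊤ : X.IdealSheafData) x = ⊤ := by
  obtain ⟨V, hV, hxV, -⟩ := exists_isAffineOpen_mem_and_subset (x := x) (U := (⊤ : X.Opens)) trivial
  rw [sI_eq _ ⟨V, hV⟩ hxV, Scheme.IdealSheafData.ideal_top, Pi.top_apply, Ideal.map_top]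

/-- The maximal ideal powers exhaust the nonzero principal ideals at a codimension one point. -/
theorem exists_uniformizer_stalk [IsLocallyNoetherian Y] (hY : Pi1.IsNormalScheme Y) {y : Y}
    (hd : ringKrullDim (Y.presheaf.stalk y) = 1) :
    ∃ t : Y.presheaf.stalk y, t ≠ 0 ∧ maximalIdeal (Y.presheaf.stalk y) = Ideal.span {t} ∧
      ∀ a : Y.presheaf.stalk y, a ≠ 0 → ∃ k : ℕ, Ideal.span {a} = maximalIdeal (Y.presheaf.stalk y) ^ k := by
  haveI := (hY y).1
  haveI := (hY y).2
  let A := Y.presheaf.stalk y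
  haveI : Ring.KrullDimLE 1 A := Ring.krullDimLE_iff.mpr hd.le
  have htfae : (IsIntegrallyClosed A ∧ ∀ P : Ideal A, P ≠ ⊥ → P.IsPrime → P = maximalIdeal A) ↔ IsPrincipalIdealRing A :=
    (tfae_of_isNoetherianRing_of_isLocalRing_of_isDomain A).out 3 0
  haveI : IsPrincipalIdealRing A := htfae.mp
    ⟨inferInstance, fun P hP hP' => by
      haveI := hP'
      exact IsLocalRing.eq_maximalIdeal (Ring.krullDimLE_one_iff_of_noZeroDivisors.mp ‹Ring.KrullDimLE 1 A› P hP hP')⟩
  have hne : maximalIdeal A ≠ ⊥ := fun h0 => by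
    have h1 := maximalIdeal_height_eq_ringKrullDim (R := A)
    rw [h0, Ideal.height_bot, hd] at h1
    exact absurd h1 (by decide)
  haveI : IsDiscreteValuationRing A := { not_a_field' := hne }
  obtain ⟨t, ht⟩ := IsDiscreteValuationRing.exists_irreducible A
  refine ⟨t, ht.ne_zero, ht.maximalIdeal_eq, fun a ha => ?_⟩
  obtain ⟨k, hk⟩ := IsDiscreteValuationRing.associated_pow_irreducible ha ht
  exact ⟨k, by rw [ht.maximalIdeal_eq, Ideal.span_singleton_pow, Ideal.span_singleton_eq_span_singleton]; exact hk⟩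

variable (f : X ⟶ Y) [Flat f] [Surjective f] [IsLocallyNoetherian X] [IsLocallyNoetherian Y] {J : X.IdealSheafData}

/-- A divisor coming from a normal base is empty over maximal points. -/
theorem comap_fiberι_eq_top_of_comap (hY : Pi1.IsNormalScheme Y) {I : Y.IdealSheafData}
    (hI : BlowUp.IsEffCartierIdeal I) {η : Y} (hη : ∀ z : Y, z ⤳ η → z = η) :
    (I.comap f).comap (f.fiberι η) = ⊤ := by
  refine ext_sI fun v => ?_
  rw [sI_top, sI_comap, sI_comap]
  have hfv : f (f.fiberι η v) = η := by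
    have : f.fiberι η v ∈ f ⁻¹' {η} := by rw [← f.range_fiberι]; exact ⟨v, rfl⟩
    exact this
  suffices h : sI I (f (f.fiberι η v)) = ⊤ by rw [h, Ideal.map_top, Ideal.map_top]
  suffices h : ∀ y, y = η → sI I y = ⊤ from h _ hfv
  rintro y rfl
  obtain ⟨W, a, hyW, -, hW⟩ := exists_sI_eq_span hI y
  obtain ⟨h1, h2⟩ := hW y hyW
  rw [h1, Ideal.span_singleton_eq_top]
  obtain ⟨U, hU, η', hη', hyU, -, hdom, hbot, -, hgen⟩ := exists_domain_nhd hY y (O := (⊤ : Y.Opens)) trivial
  haveI := hdom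
  obtain rfl : η' = y := hη η' (hgen y hyU)
  letI := Y.presheaf.algebra_section_stalk ⟨η', hyU⟩
  haveI := hU.isLocalization_stalk ⟨η', hyU⟩
  obtain ⟨⟨c, s⟩, hcs⟩ := IsLocalization.surj (hU.primeIdealOf ⟨η', hyU⟩).asIdeal.primeCompl (Y.presheaf.germ W.1 η' hyW a)
  have hc : c ≠ 0 := fun h0 => by
    simp only [h0, map_zero] at hcs
    have h3 := (IsUnit.mul_left_eq_zero (IsLocalization.map_units (Y.presheaf.stalk η') s)).1 hcs
    exact nonZeroDivisors.ne_zero h2 h3
  have hu : IsUnit (algebraMap Γ(Y, U) (Y.presheaf.stalk η') c) := IsLocalization.map_units (Y.presheaf.stalk η')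
    (⟨c, show c ∉ _ by rw [hbot]; exact hc⟩ : (hU.primeIdealOf ⟨η', hyU⟩).asIdeal.primeCompl)
  rw [← show _ = algebraMap Γ(Y, U) (Y.presheaf.stalk η') c from hcs] at hu
  exact (IsUnit.mul_iff.1 hu).1

/-- A divisor coming from a normal base has one order over a codimension one point. -/
theorem exists_order_of_comap (hY : Pi1.IsNormalScheme Y) {I : Y.IdealSheafData} (hI : BlowUp.IsEffCartierIdeal I)
    {y : Y} (hd : ringKrullDim (Y.presheaf.stalk y) = 1) :
    ∃ n : ℕ, ∀ t : Y.presheaf.stalk y, maximalIdeal (Y.presheaf.stalk y) = Ideal.span {t} →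
      ∀ (x : X) (hx : f x = y), sI (I.comap f) x =
        Ideal.span {((f.stalkMap x).hom ((Y.presheaf.stalkCongr (.of_eq hx.symm)).hom t)) ^ n} := by
  obtain ⟨t₀, -, -, hpow⟩ := exists_uniformizer_stalk hY hd
  obtain ⟨W, a, hyW, -, hW⟩ := exists_sI_eq_span hI y
  obtain ⟨h1, h2⟩ := hW y hyW
  haveI := (hY y).1
  obtain ⟨k, hk⟩ := hpow _ (nonZeroDivisors.ne_zero h2)
  refine ⟨k, fun t ht x hx => ?_⟩
  subst hx
  rw [sI_comap, h1, hk, ht, Ideal.map_pow, Ideal.map_span, Set.image_singleton, Ideal.span_singleton_pow]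
  simp

theorem exists_descent_of_orders (hf : QuasiCompact f ∨ IsOpenMap f) (hY : Pi1.IsNormalScheme Y)
    (hfib : ∀ y : ↥Y, ringKrullDim ↑(Y.presheaf.stalk y) = 1 → ∀ z z' : ↥(f.fiber y),
      IsAssociatedPrime (maximalIdeal ↑((f.fiber y).presheaf.stalk z)) ↑((f.fiber y).presheaf.stalk z) →
      IsAssociatedPrime (maximalIdeal ↑((f.fiber y).presheaf.stalk z')) ↑((f.fiber y).presheaf.stalk z') →
      z' ⤳ z → z' = z)
    (hJ : BlowUp.IsEffCartierIdeal J)
    (hgen : ∀ η : Y, (∀ z : Y, z ⤳ η → z = η) → J.comap (f.fiberι η) = ⊤)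
    (hord : ∀ y : Y, ringKrullDim (Y.presheaf.stalk y) = 1 → ∃ n : ℕ, ∀ t : Y.presheaf.stalk y,
      maximalIdeal (Y.presheaf.stalk y) = Ideal.span {t} →
        ∀ (x : X) (hx : f x = y), (∀ z : X, f z = y → z ⤳ x → z = x) → sI J x =
          Ideal.span {((f.stalkMap x).hom ((Y.presheaf.stalkCongr (.of_eq hx.symm)).hom t)) ^ n}) :
    ∃ I : Y.IdealSheafData, BlowUp.IsEffCartierIdeal I ∧ I.comap f = J := by
  refine exists_ideal_descent f hf hJ (descAt_of_cod1 hY hJ hgen fun y hd U hU hdom hyU => ?_)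
  haveI := (hY y).1
  haveI := hdom
  obtain ⟨n, hn⟩ := hord y hd
  obtain ⟨t, ht0, ht, -⟩ := exists_uniformizer_stalk hY hd
  letI := Y.presheaf.algebra_section_stalk ⟨y, hyU⟩
  haveI := hU.isLocalization_stalk ⟨y, hyU⟩
  obtain ⟨⟨c, s⟩, hcs⟩ := IsLocalization.surj (hU.primeIdealOf ⟨y, hyU⟩).asIdeal.primeCompl (t ^ n)
  have hu := IsLocalization.map_units (Y.presheaf.stalk y) s
  refine ⟨c, fun h0 => pow_ne_zero n ht0 ?_, fun z hz hbad => ?_⟩
  · simp only [h0, map_zero] at hcs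
    exact (IsUnit.mul_left_eq_zero hu).1 hcs
  obtain ⟨v, rfl⟩ : z ∈ Set.range (f.fiberι y) := by rw [f.range_fiberι]; exact hz
  have hv := assoc_fibre_of_bad (hY y).1 ht ht0 v hbad
  have hzU : f (f.fiberι y v) ∈ U := hz.symm ▸ hyU
  refine ⟨hzU, ?_⟩
  rw [hn t ht _ hz fun x hx hsp => fibre_maximal_of_assoc (hfib y hd) v hv hx hsp,
    ← stalkCongr_germ hz.symm hyU hzU c, show Y.presheaf.germ U y hyU c = _ from hcs.symm, map_mul, map_mul, map_pow, map_pow]
  exact (Ideal.span_singleton_mul_right_unit ((hu.map _).map (f.stalkMap _).hom) _).symm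

end Groth.L20.SeeNormal
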